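import Cfsg.Agent.Lib.PQFit.Group
import Cfsg.Agent.Lib.Coprime.Invariant
import Cfsg.Agent.Lib.FPF.Thompson

/-!
The setting of the fixed-point-free action of a non-abelian group of order `p q` (owner: helper77).

* `Setup`, `Setup.commute_fixed` : the fixed points of `f` form a nilpotent group
* `actKer` : elements acting trivially on `R` modulo `N`
* `fixed_of_fixed` : fixed points of a complement and its commutators with `T` are fixed by `T`
-/

set_option autoImplicit false

namespace Cfsg.Agent.PQFit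

open scoped commutatorElement

variable {Γ : Type*} [Group Γ]

/-- The elements acting trivially on `R` modulo `N`. -/
def actKer (R N : Subgroup Γ) : Subgroup Γ where
  carrier := {g | g ∈ Subgroup.normalizer (R : Set Γ) ∧ g ∈ Subgroup.normalizer (N : Set Γ) ∧
    ∀ x ∈ R, g * x * g⁻¹ * x⁻¹ ∈ N}
  one_mem' := ⟨one_mem _, one_mem _, fun x _ => by simp⟩
  mul_mem' := fun {g h} hg hh => ⟨mul_mem hg.1 hh.1, mul_mem hg.2.1 hh.2.1, fun x hx => by
    rw [show g * h * x * (g * h)⁻¹ * x⁻¹ = g * (h * x * h⁻¹ * x⁻¹) * g⁻¹ * (g * x * g⁻¹ * x⁻¹) by group]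
    exact mul_mem ((Subgroup.mem_normalizer_iff.mp hg.2.1 _).mp (hh.2.2 x hx)) (hg.2.2 x hx)⟩
  inv_mem' := fun {g} hg => ⟨inv_mem hg.1, inv_mem hg.2.1, fun x hx => by
    rw [show g⁻¹ * x * g⁻¹⁻¹ * x⁻¹ = g⁻¹ * (g * x * g⁻¹ * x⁻¹)⁻¹ * g⁻¹⁻¹ by group]
    exact (Subgroup.mem_normalizer_iff.mp (inv_mem hg.2.1) _).mp (inv_mem (hg.2.2 x hx))⟩

theorem conj_mem_actKer {R N : Subgroup Γ} {d g : Γ} (hdR : d ∈ Subgroup.normalizer (R : Set Γ))
    (hdN : d ∈ Subgroup.normalizer (N : Set Γ)) (hg : g ∈ actKer R N) : d * g * d⁻¹ ∈ actKer R N := by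
  refine ⟨mul_mem (mul_mem hdR hg.1) (inv_mem hdR), mul_mem (mul_mem hdN hg.2.1) (inv_mem hdN), fun x hx => ?_⟩
  have hx' : d⁻¹ * x * d ∈ R := by
    simpa using (Subgroup.mem_normalizer_iff.mp (inv_mem hdR) x).mp hx
  rw [show d * g * d⁻¹ * x * (d * g * d⁻¹)⁻¹ * x⁻¹ =
    d * (g * (d⁻¹ * x * d) * g⁻¹ * (d⁻¹ * x * d)⁻¹) * d⁻¹ by group]
  exact (Subgroup.mem_normalizer_iff.mp hdN _).mp (hg.2.2 _ hx')

theorem commutator_le_actKer {R N T S : Subgroup Γ} (hTR : T ≤ Subgroup.normalizer (R : Set Γ))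
    (hTN : T ≤ Subgroup.normalizer (N : Set Γ)) (hS : S ≤ actKer R N) : ⁅T, S⁆ ≤ actKer R N := by
  rw [Subgroup.commutator_le]
  intro t ht s hs
  rw [commutatorElement_def]
  exact mul_mem (conj_mem_actKer (hTR ht) (hTN ht) (hS hs)) (inv_mem (hS hs))

theorem commutator_le_of_le_actKer {R N T : Subgroup Γ} (h : T ≤ actKer R N) : ⁅R, T⁆ ≤ N := by
  rw [Subgroup.commutator_comm, Subgroup.commutator_le]
  intro t ht x hx
  rw [commutatorElement_def]
  exact (h ht).2.2 x hx

theorem commute_of_nilpotent_coprime {H : Type*} [Group H] [Finite H] [Group.IsNilpotent H] (x y : H)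
    (h : (orderOf x).Coprime (orderOf y)) : x * y = y * x := by
  obtain ⟨e⟩ := ((Group.isNilpotent_of_finite_tfae (G := H)).out 0 4).mp (inferInstance : Group.IsNilpotent H)
  apply e.symm.injective
  rw [map_mul, map_mul]
  funext p P
  haveI : Fact (Nat.Prime (p : ℕ)) := ⟨Nat.prime_of_mem_primeFactors p.2⟩
  set u := e.symm x p P
  set v := e.symm y p P
  show u * v = v * u
  let π : H →* (P : Subgroup H) :=
    (Pi.evalMonoidHom _ P).comp ((Pi.evalMonoidHom _ p).comp e.symm.toMonoidHom)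
  obtain ⟨i, hi⟩ := IsPGroup.iff_orderOf.mp P.isPGroup' u
  obtain ⟨j, hj⟩ := IsPGroup.iff_orderOf.mp P.isPGroup' v
  have hc : (orderOf u).Coprime (orderOf v) :=
    (h.coprime_dvd_left (orderOf_map_dvd π x)).coprime_dvd_right (orderOf_map_dvd π y)
  rw [hi, hj] at hc
  rcases Nat.eq_zero_or_pos i with rfl | hi0
  · rw [pow_zero, orderOf_eq_one_iff] at hi; rw [hi, one_mul, mul_one]
  rcases Nat.eq_zero_or_pos j with rfl | hj0
  · rw [pow_zero, orderOf_eq_one_iff] at hj; rw [hj, one_mul, mul_one]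
  rw [Nat.coprime_pow_left_iff hi0, Nat.coprime_pow_right_iff hj0, Nat.coprime_self] at hc
  exact absurd hc (Fact.out : Nat.Prime (p : ℕ)).ne_one

/-- The setting. -/
structure Setup (A K : Subgroup Γ) (p q : ℕ) (f : Γ) : Prop where
  frob : Frob A p q f
  norm : A ≤ Subgroup.normalizer (K : Set Γ)
  cop : (Nat.card A).Coprime (Nat.card K)
  fix : K ⊓ Subgroup.centralizer (A : Set Γ) = ⊥

namespace Setup

variable [Finite Γ] {A K : Subgroup Γ} {p q : ℕ} {f : Γ} (S : Setup A K p q f)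

include S

theorem solvable : Group.IsSolvable A := by
  have hF := S.frob
  let φ : A →* MulAut (Subgroup.zpowers f) :=
    (Subgroup.zpowers f).normalizerMonoidHom.comp (Subgroup.inclusion hF.normal)
  let P : Subgroup A := (Subgroup.zpowers f).subgroupOf A
  haveI : P.Normal :=
    (Subgroup.normal_subgroupOf_iff_le_normalizer (Subgroup.zpowers_le.mpr hF.fA)).mpr hF.normal
  haveI : IsCyclic (A ⧸ P) := by
    haveI := Fact.mk hF.hq
    refine isCyclic_of_prime_card (p := q) ?_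
    have h1 := P.card_mul_index
    rw [Subgroup.index_eq_card, hF.card, Nat.card_congr (Subgroup.subgroupOfEquivOfLe
      (Subgroup.zpowers_le.mpr hF.fA)).toEquiv, Nat.card_zpowers, hF.orderf] at h1
    exact Nat.eq_of_mul_eq_mul_left hF.hp.pos h1
  haveI : Group.IsSolvable P := by
    haveI : IsCyclic P := (Subgroup.subgroupOfEquivOfLe (Subgroup.zpowers_le.mpr hF.fA)).isCyclic.mpr inferInstance
    letI := IsCyclic.commGroup (α := P)
    infer_instance
  haveI : Group.IsSolvable (A ⧸ P) := by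
    letI := IsCyclic.commGroup (α := A ⧸ P)
    infer_instance
  exact solvable_of_ker_le_range P.subtype (QuotientGroup.mk' P) (by simp [P.range_subtype])

/-- Two fixed points of `f` of coprime orders commute. -/
theorem commute_fixed {x y : Γ} (hx : x ∈ K) (hy : y ∈ K) (hxf : Commute f x) (hyf : Commute f y)
    (hxy : (orderOf x).Coprime (orderOf y)) : x * y = y * x := by
  have hF := S.frob
  haveI := Fact.mk hF.hq
  set C := K ⊓ Subgroup.centralizer (Subgroup.zpowers f : Set Γ) with hC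
  obtain ⟨h, hh⟩ := exists_prime_orderOf_dvd_card' (G := A) q (hF.card ▸ dvd_mul_left q p)
  have hho : orderOf (h : Γ) = q := (Subgroup.orderOf_coe h).trans hh
  have hX : Subgroup.zpowers (h : Γ) ≤ Subgroup.normalizer (C : Set Γ) := by
    refine Subgroup.zpowers_le.mpr (Coprime.mem_normalizer_of_forall fun c hc => ?_)
    refine ⟨(Subgroup.mem_normalizer_iff.mp (S.norm h.2) c).mp hc.1, Subgroup.mem_centralizer_iff.mpr fun z hz => ?_⟩
    have hz' : (h : Γ)⁻¹ * z * h ∈ Subgroup.zpowers f := by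
      simpa using (Subgroup.mem_normalizer_iff.mp (inv_mem (hF.normal h.2)) z).mp hz
    have h1 := Subgroup.mem_centralizer_iff.mp hc.2 _ hz'
    calc z * (h * c * (h : Γ)⁻¹) = h * ((h : Γ)⁻¹ * z * h * c) * (h : Γ)⁻¹ := by group
      _ = h * (c * ((h : Γ)⁻¹ * z * h)) * (h : Γ)⁻¹ := by rw [h1]
      _ = h * c * (h : Γ)⁻¹ * z := by group
  haveI : Group.IsNilpotent C := by
    refine FPF.nilpotent_of_fpf_prime (A := Subgroup.zpowers (h : Γ)) (p := q)
      (by rw [Nat.card_zpowers, hho]) C (C.normalizerMonoidHom.comp (Subgroup.inclusion hX)) fun c hc => ?_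
    have h1 : (h : Γ) * c * (h : Γ)⁻¹ = c := congrArg Subtype.val (hc ⟨h, Subgroup.mem_zpowers _⟩)
    have h2 : (c : Γ) ∈ K ⊓ Subgroup.centralizer (A : Set Γ) := by
      refine ⟨c.2.1, Subgroup.mem_centralizer_iff.mpr fun a ha => ?_⟩
      let Z : Subgroup Γ := A ⊓ Subgroup.centralizer ({(c : Γ)} : Set Γ)
      have hZ : Z = A := hF.eq_A inf_le_left
        ⟨hF.fA, Subgroup.mem_centralizer_singleton_iff.mpr
          (Subgroup.mem_centralizer_iff.mp c.2.2 f (Subgroup.mem_zpowers f))⟩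
        ⟨h.2, Subgroup.mem_centralizer_singleton_iff.mpr (mul_inv_eq_iff_eq_mul.mp h1)⟩ hho
      exact Subgroup.mem_centralizer_singleton_iff.mp (hZ.ge ha).2
    rw [S.fix, Subgroup.mem_bot] at h2
    exact Subtype.ext h2
  have hm : ∀ {z}, z ∈ K → Commute f z → z ∈ C := fun hz hzf => ⟨hz, Subgroup.mem_centralizer_iff.mpr fun w hw => by
    obtain ⟨i, rfl⟩ := Subgroup.mem_zpowers_iff.mp hw
    exact (hzf.zpow_left i).eq⟩
  exact congrArg Subtype.val (commute_of_nilpotent_coprime (⟨x, hm hx hxf⟩ : C) ⟨y, hm hy hyf⟩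
    (by rwa [Subgroup.orderOf_mk, Subgroup.orderOf_mk]))

theorem commutator_A_eq {T : Subgroup Γ} (hTK : T ≤ K) (hAT : A ≤ Subgroup.normalizer (T : Set Γ)) :
    ⁅T, A⁆ = T := by
  have h1 := Coprime.commutator_sup_centralizer hAT (S.cop.coprime_dvd_right (Subgroup.card_dvd_of_le hTK))
    (Or.inl S.solvable)
  rwa [show T ⊓ Subgroup.centralizer (A : Set Γ) = ⊥ from
    le_bot_iff.mp ((inf_le_inf_right _ hTK).trans S.fix.le), sup_bot_eq] at h1

/-- `T` is generated by the commutators with two conjugate complements. -/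
theorem sup_commutator_eq {T : Subgroup Γ} (hTK : T ≤ K) (hAT : A ≤ Subgroup.normalizer (T : Set Γ)) {h : Γ}
    (hh : h ∈ A) (ho : orderOf h = q) {b : Γ} (hb : b ∈ Subgroup.zpowers f) (hb1 : b ≠ 1) :
    ⁅T, Subgroup.zpowers h⁆ ⊔ ⁅T, Subgroup.zpowers (b * h * b⁻¹)⁆ = T := by
  have hbA : b ∈ A := Subgroup.zpowers_le.mpr S.frob.fA hb
  set M := ⁅T, Subgroup.zpowers h⁆ ⊔ ⁅T, Subgroup.zpowers (b * h * b⁻¹)⁆ with hM
  have hle : ∀ x ∈ A, ⁅T, Subgroup.zpowers x⁆ ≤ T := fun x hx =>
    Coprime.commutator_le_left' ((Subgroup.zpowers_le.mpr hx).trans hAT)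
  have hMT : M ≤ T := sup_le (hle h hh) (hle _ (mul_mem (mul_mem hbA hh) (inv_mem hbA)))
  have hTM : T ≤ Subgroup.normalizer (M : Set Γ) := fun t ht => Coprime.mem_normalizer_of_forall fun x hx => by
    have h1 : M.map (MulAut.conj t).toMonoidHom = M := by
      rw [hM, Subgroup.map_sup]
      congr 1 <;> ext z <;> simp only [Subgroup.mem_map, MulEquiv.coe_toMonoidHom, MulAut.conj_apply]
      · constructor
        · rintro ⟨w, hw, rfl⟩
          exact (Subgroup.mem_normalizer_iff.mp (Subgroup.normalizer_commutator_ge_left _ _ ht) w).mp hw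
        · intro hz
          refine ⟨t⁻¹ * z * t, ?_, by group⟩
          simpa using (Subgroup.mem_normalizer_iff.mp (inv_mem (Subgroup.normalizer_commutator_ge_left _ _ ht)) z).mp hz
      · constructor
        · rintro ⟨w, hw, rfl⟩
          exact (Subgroup.mem_normalizer_iff.mp (Subgroup.normalizer_commutator_ge_left _ _ ht) w).mp hw
        · intro hz
          refine ⟨t⁻¹ * z * t, ?_, by group⟩
          simpa using (Subgroup.mem_normalizer_iff.mp (inv_mem (Subgroup.normalizer_commutator_ge_left _ _ ht)) z).mp hz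
    exact h1.le ⟨x, hx, rfl⟩
  have hgen : ∀ x, ⁅T, Subgroup.zpowers x⁆ ≤ M → x ∈ A → x ∈ Subgroup.normalizer (M : Set Γ) := by
    intro x hx hxA
    refine Coprime.mem_normalizer_of_forall fun m hm => ?_
    have h1 : ⁅m, x⁆ ∈ M := hx (Subgroup.commutator_mem_commutator (hMT hm) (Subgroup.mem_zpowers x))
    rw [show x * m * x⁻¹ = ⁅m, x⁆⁻¹ * m by rw [commutatorElement_def]; group]
    exact mul_mem (inv_mem h1) hm
  let Z : Subgroup Γ :=
    { carrier := {x | x ∈ A ∧ x ∈ Subgroup.normalizer (M : Set Γ) ∧ ∀ t ∈ T, ⁅t, x⁆ ∈ M}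
      one_mem' := ⟨one_mem _, one_mem _, fun t _ => by simp⟩
      mul_mem' := fun {x y} hx hy => ⟨mul_mem hx.1 hy.1, mul_mem hx.2.1 hy.2.1, fun t ht => by
        rw [show ⁅t, x * y⁆ = ⁅t, x⁆ * (x * ⁅t, y⁆ * x⁻¹) by simp only [commutatorElement_def]; group]
        exact mul_mem (hx.2.2 t ht) ((Subgroup.mem_normalizer_iff.mp hx.2.1 _).mp (hy.2.2 t ht))⟩
      inv_mem' := fun {x} hx => ⟨inv_mem hx.1, inv_mem hx.2.1, fun t ht => by
        rw [show ⁅t, x⁻¹⁆ = x⁻¹ * ⁅t, x⁆⁻¹ * x⁻¹⁻¹ by simp only [commutatorElement_def]; group]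
        exact (Subgroup.mem_normalizer_iff.mp (inv_mem hx.2.1) _).mp (inv_mem (hx.2.2 t ht))⟩ }
  have hmem : ∀ x ∈ A, ⁅T, Subgroup.zpowers x⁆ ≤ M → x ∈ Z := fun x hx hle' =>
    ⟨hx, hgen x hle' hx, fun t ht => hle' (Subgroup.commutator_mem_commutator ht (Subgroup.mem_zpowers x))⟩
  have hAZ : A ≤ Z := by
    rw [← S.frob.sup_conj hh ho hb hb1]
    exact sup_le (Subgroup.zpowers_le.mpr (hmem h hh le_sup_left))
      (Subgroup.zpowers_le.mpr (hmem _ (mul_mem (mul_mem hbA hh) (inv_mem hbA)) le_sup_right))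
  refine le_antisymm hMT ?_
  conv_lhs => rw [← S.commutator_A_eq hTK hAT]
  rw [Subgroup.commutator_le]
  exact fun t ht a ha => (hAZ ha).2.2 t ht

/-- Points fixed by a complement and by its commutators with `T` are fixed by `T`. -/
theorem fixed_of_fixed {T : Subgroup Γ} (hTK : T ≤ K) (hAT : A ≤ Subgroup.normalizer (T : Set Γ))
    {V : Type*} [CommGroup V] [Finite V] (act : (T ⊔ A : Subgroup Γ) →* MulAut V)
    (hcopV : (Nat.card T).Coprime (Nat.card V))
    (hVfix : ∀ v, (∀ a : (T ⊔ A : Subgroup Γ), (a : Γ) ∈ A → act a v = v) → v = 1)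
    {h : Γ} (hh : h ∈ A) (ho : orderOf h = q) {v : V}
    (hv1 : ∀ x : (T ⊔ A : Subgroup Γ), (x : Γ) = h → act x v = v)
    (hv2 : ∀ x : (T ⊔ A : Subgroup Γ), (x : Γ) ∈ ⁅T, Subgroup.zpowers h⁆ → act x v = v) :
    ∀ x : (T ⊔ A : Subgroup Γ), (x : Γ) ∈ T → act x v = v := by
  classical
  letI := Fintype.ofFinite (Subgroup.zpowers f)
  have hF := S.frob
  have hfA : ∀ {b}, b ∈ Subgroup.zpowers f → b ∈ A := fun hb => Subgroup.zpowers_le.mpr hF.fA hb
  let ι : Subgroup.zpowers f → (T ⊔ A : Subgroup Γ) := fun b => ⟨b, Subgroup.mem_sup_right (hfA b.2)⟩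
  let M : Subgroup.zpowers f → Subgroup Γ := fun b => ⁅T, Subgroup.zpowers ((b : Γ) * h * (b : Γ)⁻¹)⁆
  let Fix : Subgroup Γ → V → Prop := fun N w => ∀ x : (T ⊔ A : Subgroup Γ), (x : Γ) ∈ N → act x w = w
  have hM1 : M 1 = ⁅T, Subgroup.zpowers h⁆ := by simp [M]
  have hMT : ∀ b, M b ≤ T := fun b => Coprime.commutator_le_left'
    ((Subgroup.zpowers_le.mpr (mul_mem (mul_mem (hfA b.2) hh) (inv_mem (hfA b.2)))).trans hAT)
  -- translates
  let w : Subgroup.zpowers f → V := fun b => act (ι b) v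
  have hw : ∀ b, Fix (M b) (w b) := by
    intro b x hx
    have h1 : (((ι b)⁻¹ * x * ι b : (T ⊔ A : Subgroup Γ)) : Γ) ∈ ⁅T, Subgroup.zpowers h⁆ := by
      have hmap : (M b).map (MulAut.conj ((b : Γ)⁻¹)).toMonoidHom = ⁅T, Subgroup.zpowers h⁆ := by
        rw [Subgroup.map_commutator, MonoidHom.map_zpowers]
        congr 1
        · refine le_antisymm ?_ ?_
          · rintro _ ⟨t, ht, rfl⟩
            exact (Subgroup.mem_normalizer_iff.mp (inv_mem (hAT (hfA b.2))) t).mp ht
          · intro t ht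
            refine ⟨(b : Γ) * t * (b : Γ)⁻¹, (Subgroup.mem_normalizer_iff.mp (hAT (hfA b.2)) t).mp ht, ?_⟩
            simp [mul_assoc]
        · congr 1
          simp [mul_assoc]
      rw [← hmap]
      exact ⟨x, hx, by simp [ι]⟩
    have h2 := hv2 _ h1
    rw [map_mul, map_mul, MulAut.mul_apply, MulAut.mul_apply, map_inv, MulAut.inv_apply] at h2
    exact (MulEquiv.symm_apply_eq _).mp h2
  have hprod : ∏ b, w b = 1 := by
    refine hVfix _ fun a ha => ?_
    let Z : Subgroup Γ :=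
      { carrier := {z | ∀ x : (T ⊔ A : Subgroup Γ), (x : Γ) = z → act x (∏ b, w b) = ∏ b, w b} ∩ A
        one_mem' := ⟨fun x hx => by rw [show x = 1 from Subtype.ext hx, map_one]; rfl, one_mem _⟩
        mul_mem' := fun {y z} hy hz => ⟨fun x hx => by
          rw [show x = ⟨y, Subgroup.mem_sup_right hy.2⟩ * ⟨z, Subgroup.mem_sup_right hz.2⟩ from Subtype.ext hx,
            map_mul, MulAut.mul_apply, hz.1 _ rfl, hy.1 _ rfl], mul_mem hy.2 hz.2⟩
        inv_mem' := fun {y} hy => ⟨fun x hx => by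
          rw [show x = (⟨y, Subgroup.mem_sup_right hy.2⟩ : (T ⊔ A : Subgroup Γ))⁻¹ from Subtype.ext hx, map_inv,
            MulAut.inv_apply, MulEquiv.symm_apply_eq]
          exact (hy.1 _ rfl).symm, inv_mem hy.2⟩ }
    have hZf : f ∈ Z := by
      refine ⟨fun x hx => ?_, hF.fA⟩
      rw [map_prod]
      refine Fintype.prod_equiv (Equiv.mulLeft ⟨f, Subgroup.mem_zpowers f⟩) _ _ fun b => ?_
      show act x (act (ι b) v) = act (ι (⟨f, Subgroup.mem_zpowers f⟩ * b)) v
      rw [← MulAut.mul_apply, ← map_mul]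
      exact congrArg (fun z => act z v) (Subtype.ext (by simp [ι, hx]))
    have hZh : h ∈ Z := by
      refine ⟨fun x hx => ?_, hh⟩
      rw [map_prod]
      refine Fintype.prod_equiv
        { toFun := fun b : Subgroup.zpowers f =>
            (⟨h * b * h⁻¹, (Subgroup.mem_normalizer_iff.mp (hF.normal hh) b).mp b.2⟩ : Subgroup.zpowers f)
          invFun := fun b : Subgroup.zpowers f => (⟨h⁻¹ * b * h, by
            simpa using (Subgroup.mem_normalizer_iff.mp (inv_mem (hF.normal hh)) b).mp b.2⟩ : Subgroup.zpowers f)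
          left_inv := fun b => Subtype.ext (by simp [mul_assoc])
          right_inv := fun b => Subtype.ext (by simp [mul_assoc]) } _ _ fun b => ?_
      show act x (act (ι b) v) = act _ v
      conv_rhs => rw [← hv1 x hx]
      rw [← MulAut.mul_apply, ← map_mul, ← MulAut.mul_apply, ← map_mul]
      exact congrArg (fun z => act z v) (Subtype.ext (by simp [ι, hx, mul_assoc]))
    have hZA : Z = A := hF.eq_A (fun z hz => hz.2) hZf hZh ho
    exact (hZA.ge ha).1 a rfl
  -- induction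
  have hTact : ∀ {x : Γ}, x ∈ T → x ∈ T ⊔ A := fun hx => Subgroup.mem_sup_left hx
  let d : (N : Subgroup Γ) → N ≤ T → V →* V := fun N hN =>
    letI := Fintype.ofFinite N
    powMonoidHom (Nat.card N) / ∏ x : N, (act ⟨x, hTact (hN x.2)⟩).toMonoidHom
  have hd : ∀ (N : Subgroup Γ) (hN : N ≤ T) (u : V),
      letI := Fintype.ofFinite N
      d N hN u = u ^ Nat.card N / ∏ x : N, act ⟨x, hTact (hN x.2)⟩ u := fun N hN u => by
    simp only [d, MonoidHom.div_apply, powMonoidHom_apply, MonoidHom.finsetProd_apply]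
    rfl
  have hdfix : ∀ (N : Subgroup Γ) (hN : N ≤ T) (u : V), Fix N u → d N hN u = 1 := by
    intro N hN u hu
    letI := Fintype.ofFinite N
    rw [hd N hN, Finset.prod_congr rfl (fun (x : N) _ => hu ⟨x, hTact (hN x.2)⟩ x.2), Finset.prod_const, Finset.card_univ,
      Nat.card_eq_fintype_card, div_self']
  have havg : ∀ (N : Subgroup Γ) (hN : N ≤ T) (u : V) (N' : Subgroup Γ),
      letI := Fintype.ofFinite N
      N' ≤ Subgroup.normalizer (N : Set Γ) → Fix N' u → Fix N' (∏ x : N, act ⟨x, hTact (hN x.2)⟩ u) := by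
    intro N hN u N'
    letI := Fintype.ofFinite N
    intro hN' hu y hy
    rw [map_prod]
    refine Fintype.prod_equiv
      { toFun := fun x : N => (⟨(y : Γ) * x * (y : Γ)⁻¹, (Subgroup.mem_normalizer_iff.mp (hN' hy) x).mp x.2⟩ : N)
        invFun := fun x : N => (⟨(y : Γ)⁻¹ * x * (y : Γ), by
          simpa using (Subgroup.mem_normalizer_iff.mp (inv_mem (hN' hy)) x).mp x.2⟩ : N)
        left_inv := fun x => Subtype.ext (by simp [mul_assoc])
        right_inv := fun x => Subtype.ext (by simp [mul_assoc]) } _ _ fun x => ?_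
    conv_rhs => rw [← hu y hy]
    rw [← MulAut.mul_apply, ← map_mul, ← MulAut.mul_apply, ← map_mul]
    exact congrArg (fun z => act z u) (Subtype.ext (by simp [mul_assoc]))
  have hdpres : ∀ (N : Subgroup Γ) (hN : N ≤ T) (u : V) (N' : Subgroup Γ),
      N' ≤ Subgroup.normalizer (N : Set Γ) → Fix N' u → Fix N' (d N hN u) := by
    intro N hN u N' hN' hu y hy
    rw [hd N hN, map_div, map_pow, hu y hy, havg N hN u N' hN' hu y hy]
  have hTM : ∀ b, T ≤ Subgroup.normalizer (M b : Set Γ) := fun b => Subgroup.normalizer_commutator_ge_left _ _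
  have key : ∀ s : Finset (Subgroup.zpowers f), 1 ∉ s → ∃ (n : ℕ) (D : V →* V), n.Coprime (Nat.card V) ∧
      (∀ b ∈ s, D (w b) = 1) ∧ (∀ (N' : Subgroup Γ) (u : V), N' ≤ T → Fix N' u → Fix N' (D u)) ∧
      Fix T (D v / v ^ n) := by
    intro s
    induction s using Finset.induction_on with
    | empty =>
      exact fun _ => ⟨1, MonoidHom.id V, Nat.coprime_one_left _, fun b hb => absurd hb (Finset.notMem_empty b),
        fun _ _ _ hu => hu, fun x _ => by rw [MonoidHom.id_apply, pow_one, div_self', map_one]⟩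
    | insert b s hbs ih =>
      intro h1
      rw [Finset.mem_insert, not_or] at h1
      obtain ⟨n, D, hn, hk, hp', hc⟩ := ih h1.2
      letI := Fintype.ofFinite (M b)
      refine ⟨Nat.card (M b) * n, (d (M b) (hMT b)).comp D,
        ((hcopV.coprime_dvd_left (Subgroup.card_dvd_of_le (hMT b))).mul_left hn), ?_, ?_, ?_⟩
      · intro c hc'
        rcases Finset.mem_insert.mp hc' with rfl | hc'
        · exact hdfix _ (hMT c) _ (hp' _ _ (hMT _) (hw c))
        · rw [MonoidHom.comp_apply, hk c hc', map_one]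
      · exact fun N' u hN' hu => hdpres _ (hMT b) _ _ (hN'.trans (hTM b)) (hp' N' u hN' hu)
      · have hcT : d (M b) (hMT b) (D v / v ^ n) = 1 := hdfix _ (hMT b) _ fun x hx => hc x (hMT b hx)
        rw [map_div, div_eq_one] at hcT
        have e : (d (M b) (hMT b)).comp D v / v ^ (Nat.card (M b) * n) =
            (∏ x : M b, act ⟨x, hTact (hMT b x.2)⟩ v)⁻¹ ^ n := by
          rw [MonoidHom.comp_apply, hcT, map_pow, hd (M b) (hMT b), pow_mul, ← div_pow, div_div_cancel_left]
        rw [e]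
        intro x hx
        have havT : Fix T (∏ x : M b, act ⟨x, hTact (hMT b x.2)⟩ v) := by
          have hfix1 : Fix (M 1) (∏ x : M b, act ⟨x, hTact (hMT b x.2)⟩ v) :=
            havg _ (hMT b) _ _ ((hMT 1).trans (hTM b)) (fun y hy => hv2 y (hM1 ▸ hy))
          have hfixb : Fix (M b) (∏ x : M b, act ⟨x, hTact (hMT b x.2)⟩ v) := fun y hy => by
            rw [map_prod]
            refine Fintype.prod_equiv (Equiv.mulLeft ⟨y, hy⟩) _ _ fun x => ?_
            rw [← MulAut.mul_apply, ← map_mul]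
            exact congrArg (fun z => act z v) (Subtype.ext rfl)
          let Z : Subgroup Γ :=
            { carrier := {z | ∀ y : (T ⊔ A : Subgroup Γ), (y : Γ) = z →
                act y (∏ x : M b, act ⟨x, hTact (hMT b x.2)⟩ v) = ∏ x : M b, act ⟨x, hTact (hMT b x.2)⟩ v} ∩ T
              one_mem' := ⟨fun y hy => by rw [show y = 1 from Subtype.ext hy, map_one]; rfl, one_mem _⟩
              mul_mem' := fun {y z} hy hz => ⟨fun x hx => by
                rw [show x = ⟨y, hTact hy.2⟩ * ⟨z, hTact hz.2⟩ from Subtype.ext hx,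
                  map_mul, MulAut.mul_apply, hz.1 _ rfl, hy.1 _ rfl], mul_mem hy.2 hz.2⟩
              inv_mem' := fun {y} hy => ⟨fun x hx => by
                rw [show x = (⟨y, hTact hy.2⟩ : (T ⊔ A : Subgroup Γ))⁻¹ from Subtype.ext hx, map_inv,
                  MulAut.inv_apply, MulEquiv.symm_apply_eq]
                exact (hy.1 _ rfl).symm, inv_mem hy.2⟩ }
          have hTZ : T ≤ Z := by
            rw [← S.sup_commutator_eq hTK hAT hh ho b.2 (fun e => h1.1 (Subtype.ext e.symm))]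
            refine sup_le (fun z hz => ⟨fun y hy => hfix1 y (by rw [hM1, hy]; exact hz), ?_⟩)
              (fun z hz => ⟨fun y hy => hfixb y (by rw [hy]; exact hz), hMT b hz⟩)
            exact hMT 1 (hM1 ▸ hz)
          exact fun y hy => (hTZ hy).1 y rfl
        rw [map_pow, map_inv, havT x hx]
  obtain ⟨n, D, hn, hk, -, hc⟩ := key (Finset.univ.erase 1) (by simp)
  have hD1 : D v = 1 := by
    have h1 : D (∏ b, w b) = D (w 1) := by
      rw [map_prod]
      exact Finset.prod_eq_single 1 (fun b _ hb => hk b (Finset.mem_erase.mpr ⟨hb, Finset.mem_univ b⟩))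
        (fun h => absurd (Finset.mem_univ _) h)
    rw [hprod, map_one] at h1
    have h2 : w 1 = v := by
      show act (ι 1) v = v
      rw [show ι 1 = 1 from Subtype.ext rfl, map_one]; rfl
    rw [← h2, ← h1]
  intro x hx
  have h3 := hc x hx
  rw [hD1, one_div, map_inv, inv_inj, map_pow] at h3
  exact (powCoprime hn.symm).injective h3

end Setup

end Cfsg.Agent.PQFit
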