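import Cfsg.Agent.Lib.PQFit.Main

/-!
An invariant `t`-group centralises every invariant `r`-group it normalises (owner: helper77).

* `centralize`
-/

set_option autoImplicit false

namespace Cfsg.Agent.PQFit

open scoped commutatorElement

theorem normalizer_commutator {Γ : Type*} [Group Γ] [Finite Γ] {X Y : Subgroup Γ} {g : Γ}
    (hX : g ∈ Subgroup.normalizer (X : Set Γ)) (hY : g ∈ Subgroup.normalizer (Y : Set Γ)) :
    g ∈ Subgroup.normalizer ((⁅X, Y⁆ : Subgroup Γ) : Set Γ) := by
  have h : ⁅X, Y⁆.map (MulAut.conj g).toMonoidHom ≤ ⁅X, Y⁆ := by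
    rw [Subgroup.map_commutator]
    refine Subgroup.commutator_mono ?_ ?_
    · rintro _ ⟨x, hx, rfl⟩; exact (Subgroup.mem_normalizer_iff.mp hX x).mp hx
    · rintro _ ⟨x, hx, rfl⟩; exact (Subgroup.mem_normalizer_iff.mp hY x).mp hx
  exact Coprime.mem_normalizer_of_forall fun x hx => h ⟨x, hx, rfl⟩

theorem centralize {Γ : Type*} [Group Γ] [Finite Γ] {A K : Subgroup Γ} [Fintype A] {p q : ℕ} {f : Γ}
    (S : Setup A K p q f) {F : Type*} [Field F] [IsAlgClosed F] {W : Type*} [AddCommGroup W] [Module F W]
    [FiniteDimensional F W] (ρ : Γ →* Module.End F W) (hpF : (p : F) ≠ 0) (hqF : (q : F) ≠ 0)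
    (hinj : ∀ x ∈ K, ρ x = 1 → x = 1) (hsum : ∑ b : A, ρ (b : Γ) = 0) (n : ℕ) :
    ∀ {R T : Subgroup Γ} {r t : ℕ}, Pair A K R T r t → (r : F) ≠ 0 → Nat.card R + Nat.card T ≤ n →
      T ≤ Subgroup.centralizer (R : Set Γ) := by
  induction n with
  | zero =>
    intro R T r t _ _ hn
    have := Nat.card_pos (α := R)
    omega
  | succ n ih =>
    intro R T r t P hrF hn
    haveI := Fact.mk P.hr
    haveI := Fact.mk P.ht
    have hlt : ∀ {X Y : Subgroup Γ}, X < Y → Nat.card X < Nat.card Y := fun h =>
      (Subgroup.card_le_of_le h.le).lt_of_ne fun he => h.ne (Subgroup.eq_of_le_of_card_ge h.le he.ge)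
    by_cases hR : R = ⊥
    · subst hR
      intro x _
      rw [Subgroup.mem_centralizer_iff]
      intro y hy
      rw [Subgroup.mem_bot.mp hy, one_mul, mul_one]
    by_cases hT : T = ⊥
    · rw [hT]; exact bot_le
    haveI : Group.IsNilpotent R := P.hR.isNilpotent
    haveI : Group.IsNilpotent T := P.hT.isNilpotent
    by_contra hcon
    -- `R = ⁅R, T⁆`
    have hRT : ⁅R, T⁆ = R := by
      by_contra hne
      have hle : ⁅R, T⁆ ≤ R := Coprime.commutator_le_left' P.hTR
      have P' : Pair A K ⁅R, T⁆ T r t :=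
        { hr := P.hr, ht := P.ht, hrt := P.hrt, hRK := hle.trans P.hRK, hTK := P.hTK,
          hAR := fun a ha => normalizer_commutator (P.hAR ha) (P.hAT ha)
          hTR := Subgroup.normalizer_commutator_ge_right R T, hAT := P.hAT, hR := P.hR.to_le hle, hT := P.hT }
      have h := ih P' hrF (by have := hlt (lt_of_le_of_ne hle hne); omega)
      have h1 : ⁅⁅R, T⁆, T⁆ = ⊥ := by
        rw [Subgroup.commutator_comm]
        exact Subgroup.commutator_eq_bot_iff_le_centralizer.mpr h
      rw [Coprime.commutator_commutator_eq P.hTR P.cop_TR (Or.inl inferInstance),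
        Subgroup.commutator_comm] at h1
      exact hcon (Subgroup.commutator_eq_bot_iff_le_centralizer.mp h1)
    -- the derived subgroup of `T`
    have hT' : ⁅T, T⁆ ≤ Subgroup.centralizer (R : Set Γ) := by
      have hle : ⁅T, T⁆ ≤ T := Subgroup.commutator_le_self T
      have hne : ⁅T, T⁆ ≠ T := by
        intro he
        have hall : ∀ k, T ≤ (derivedSeries T k).map T.subtype := by
          intro k
          induction k with
          | zero => rw [derivedSeries_zero, ← MonoidHom.range_eq_map, Subgroup.range_subtype]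
          | succ k ihk =>
            rw [derivedSeries_succ, Subgroup.map_commutator]
            exact he.ge.trans (Subgroup.commutator_mono ihk ihk)
        obtain ⟨k, hk⟩ := Group.IsSolvable.solvable (G := T)
        refine hT (le_bot_iff.mp ((hall k).trans ?_))
        rw [hk, Subgroup.map_bot]
      have P' : Pair A K R ⁅T, T⁆ r t :=
        { hr := P.hr, ht := P.ht, hrt := P.hrt, hRK := P.hRK, hTK := hle.trans P.hTK, hAR := P.hAR,
          hTR := hle.trans P.hTR,
          hAT := fun a ha => normalizer_commutator (P.hAT ha) (P.hAT ha)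
          hR := P.hR, hT := P.hT.to_le hle }
      exact ih P' hrF (by have := hlt (lt_of_le_of_ne hle hne); omega)
    -- the Frattini subgroup of `R`
    have hfR : T ≤ Subgroup.centralizer (frat R : Set Γ) := by
      have hne : frat R ≠ R := fun h => hR (eq_of_le_sup_frat (H := ⊥) bot_le (h.ge.trans le_sup_right)).symm
      have P' : Pair A K (frat R) T r t :=
        { hr := P.hr, ht := P.ht, hrt := P.hrt, hRK := (frat_le R).trans P.hRK, hTK := P.hTK,
          hAR := P.hAR.trans (normalizer_le_frat R), hTR := P.hTR.trans (normalizer_le_frat R), hAT := P.hAT,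
          hR := P.hR.to_le (frat_le R), hT := P.hT }
      exact ih P' hrF (by have := hlt (lt_of_le_of_ne (frat_le R) hne); omega)
    have hRf : R ≤ Subgroup.centralizer (frat R : Set Γ) := by
      have h3 : ⁅⁅R, T⁆, frat R⁆ = ⊥ := by
        refine Subgroup.commutator_commutator_eq_bot_of_rotate ?_ ?_
        · rw [Subgroup.commutator_eq_bot_iff_le_centralizer.mpr hfR, Subgroup.commutator_bot_left]
        · rw [Subgroup.commutator_eq_bot_iff_le_centralizer]
          refine (Coprime.commutator_le_left' (Subgroup.le_normalizer.trans (normalizer_le_frat R))).trans ?_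
          intro x hx
          exact Subgroup.mem_centralizer_iff.mpr fun y hy => (Subgroup.mem_centralizer_iff.mp (hfR hy) x hx).symm
      rw [hRT] at h3
      exact Subgroup.commutator_eq_bot_iff_le_centralizer.mp h3
    have hinjR : ∀ x ∈ R, ρ x = 1 → x = 1 := fun x hx => hinj x (P.hRK hx)
    by_cases hf0 : frat R = ⊥
    · have hRab : R ≤ Subgroup.centralizer (R : Set Γ) := by
        intro x hx
        rw [Subgroup.mem_centralizer_iff]
        intro y hy
        rw [← commutatorElement_eq_one_iff_mul_comm, ← Subgroup.mem_bot, ← hf0]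
        exact ⟨⁅(⟨y, hy⟩ : R), ⟨x, hx⟩⁆, Cores.commutator_le_frattini
          (Subgroup.commutator_mem_commutator (Subgroup.mem_top _) (Subgroup.mem_top _)), rfl⟩
      exact P.false_of_minimal S ρ hpF hqF hrF hinjR hsum hRT hT' R hR le_rfl P.hAR P.hTR hRab (Or.inl rfl)
    · exact P.false_of_minimal S ρ hpF hqF hrF hinjR hsum hRT hT' (frat R) hf0 (frat_le R)
        (P.hAR.trans (normalizer_le_frat R)) (P.hTR.trans (normalizer_le_frat R)) hRf (Or.inr ⟨hfR, le_rfl⟩)

end Cfsg.Agent.PQFit
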