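import Cfsg.Agent.Lib.PQFit.Basic
import Cfsg.Agent.Lib.Cores.Frattini
import Cfsg.Agent.Lib.FixedFormula.Frobenius

/-!
No invariant section of `R` is centralised by a stabiliser (owner: helper77).

* `Pair` : an invariant `r`-group normalised by an invariant `t`-group
* `Pair.fixed_mod_frattini`, `Pair.eq_of_act_trivial`
-/

set_option autoImplicit false

namespace Cfsg.Agent.PQFit

open scoped commutatorElement

variable {Γ : Type*} [Group Γ]

/-- The Frattini subgroup of a subgroup. -/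
def frat (R : Subgroup Γ) : Subgroup Γ := (frattini R).map R.subtype

theorem frat_le (R : Subgroup Γ) : frat R ≤ R := Subgroup.map_subtype_le _

theorem normalizer_le_frat [Finite Γ] (R : Subgroup Γ) :
    Subgroup.normalizer (R : Set Γ) ≤ Subgroup.normalizer (frat R : Set Γ) := by
  intro g hg
  refine Coprime.mem_normalizer_of_forall ?_
  rintro _ ⟨x, hx, rfl⟩
  exact ⟨R.normalizerMonoidHom ⟨g, hg⟩ x,
    (Subgroup.characteristic_iff_map_le.mp inferInstance (R.normalizerMonoidHom ⟨g, hg⟩)) ⟨x, hx, rfl⟩, rfl⟩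

theorem eq_of_le_sup_frat [Finite Γ] {R H : Subgroup Γ} (hH : H ≤ R) (h : R ≤ H ⊔ frat R) : H = R := by
  refine le_antisymm hH ?_
  have h1 : H.subgroupOf R ⊔ frattini R = ⊤ := by
    apply Subgroup.map_injective R.subtype_injective
    rw [Subgroup.map_sup, Subgroup.map_subgroupOf_eq_of_le hH, ← MonoidHom.range_eq_map,
      Subgroup.range_subtype]
    exact le_antisymm (sup_le hH (frat_le R)) h
  exact Subgroup.subgroupOf_eq_top.mp (frattini_nongenerating h1)

/-- An invariant `r`-group `R` normalised by an invariant `t`-group `T`. -/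
structure Pair (A K R T : Subgroup Γ) (r t : ℕ) : Prop where
  hr : r.Prime
  ht : t.Prime
  hrt : r ≠ t
  hRK : R ≤ K
  hTK : T ≤ K
  hAR : A ≤ Subgroup.normalizer (R : Set Γ)
  hTR : T ≤ Subgroup.normalizer (R : Set Γ)
  hAT : A ≤ Subgroup.normalizer (T : Set Γ)
  hR : IsPGroup r R
  hT : IsPGroup t T

namespace Pair

variable [Finite Γ] {A K R T : Subgroup Γ} {p q r t : ℕ} {f : Γ} (S : Setup A K p q f) (P : Pair A K R T r t)

include P

theorem cop_TR : (Nat.card T).Coprime (Nat.card R) := by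
  haveI := Fact.mk P.hr
  haveI := Fact.mk P.ht
  obtain ⟨m, hm⟩ := IsPGroup.iff_card.mp P.hR
  obtain ⟨n, hn⟩ := IsPGroup.iff_card.mp P.hT
  rw [hm, hn]
  exact Nat.Coprime.pow _ _ ((Nat.coprime_primes P.ht P.hr).mpr P.hrt.symm)

include S

theorem cop_AR : (Nat.card A).Coprime (Nat.card R) := S.cop.coprime_dvd_right (Subgroup.card_dvd_of_le P.hRK)

theorem cop_AT : (Nat.card A).Coprime (Nat.card T) := S.cop.coprime_dvd_right (Subgroup.card_dvd_of_le P.hTK)

theorem cop_commutator_sup {a : Γ} (ha : a ∈ A) :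
    (Nat.card (⁅T, Subgroup.zpowers a⁆ ⊔ Subgroup.zpowers a : Subgroup Γ)).Coprime (Nat.card R) := by
  have hM : ⁅T, Subgroup.zpowers a⁆ ≤ T := Coprime.commutator_le_left' ((Subgroup.zpowers_le.mpr ha).trans P.hAT)
  rw [Coprime.card_sup_of_coprime (Subgroup.normalizer_commutator_ge_right _ _)
    (((P.cop_AT S).symm.coprime_dvd_left (Subgroup.card_dvd_of_le hM)).coprime_dvd_right
      (Subgroup.card_dvd_of_le (Subgroup.zpowers_le.mpr ha)))]
  exact (P.cop_TR.coprime_dvd_left (Subgroup.card_dvd_of_le hM)).mul_left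
    ((P.cop_AR S).coprime_dvd_left (Subgroup.card_dvd_of_le (Subgroup.zpowers_le.mpr ha)))

theorem commutator_sup_le_normalizer {a : Γ} (ha : a ∈ A) :
    ⁅T, Subgroup.zpowers a⁆ ⊔ Subgroup.zpowers a ≤ Subgroup.normalizer (R : Set Γ) :=
  sup_le ((Coprime.commutator_le_left' ((Subgroup.zpowers_le.mpr ha).trans P.hAT)).trans P.hTR)
    ((Subgroup.zpowers_le.mpr ha).trans P.hAR)

/-- Modulo the Frattini subgroup, `T` fixes the common fixed points of a complement and its commutators. -/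
theorem fixed_mod_frattini {a : Γ} (ha : a ∈ A) (hao : orderOf a = q) {c : Γ} (hc : c ∈ R)
    (hca : a * c = c * a) (hcM : ∀ u ∈ ⁅T, Subgroup.zpowers a⁆, u * c = c * u) :
    ∀ x ∈ T, x * c * x⁻¹ * c⁻¹ ∈ frat R := by
  have hF := S.frob
  haveI := Fact.mk P.hr
  haveI : Group.IsNilpotent R := P.hR.isNilpotent
  letI : CommGroup (R ⧸ frattini R) :=
    { (inferInstance : Group (R ⧸ frattini R)) with
      mul_comm := fun x y => by
        obtain ⟨x, rfl⟩ := QuotientGroup.mk'_surjective _ x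
        obtain ⟨y, rfl⟩ := QuotientGroup.mk'_surjective _ y
        rw [← map_mul, ← map_mul, QuotientGroup.mk'_eq_mk']
        refine ⟨(x * y)⁻¹ * (y * x), Cores.commutator_le_frattini ?_, by group⟩
        rw [show (x * y)⁻¹ * (y * x) = ⁅y⁻¹, x⁻¹⁆ by simp [commutatorElement_def, mul_assoc]]
        exact Subgroup.commutator_mem_commutator (Subgroup.mem_top _) (Subgroup.mem_top _) }
  have hD : T ⊔ A ≤ Subgroup.normalizer (R : Set Γ) := sup_le P.hTR P.hAR
  have hinv : ∀ g, ∀ x ∈ frattini R, Coprime.conjAut hD g x ∈ frattini R := fun g x hx =>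
    (Subgroup.characteristic_iff_map_le.mp inferInstance (Coprime.conjAut hD g)) ⟨x, hx, rfl⟩
  let act : (T ⊔ A : Subgroup Γ) →* MulAut (R ⧸ frattini R) := FixedFormula.quotAct (Coprime.conjAut hD) (frattini R) hinv
  have hact : ∀ (g : (T ⊔ A : Subgroup Γ)) (x : R), act g (x : R ⧸ frattini R) = ((Coprime.conjAut hD g x : R) : R ⧸ frattini R) :=
    fun g x => rfl
  have hcop : (Nat.card T).Coprime (Nat.card (R ⧸ frattini R)) :=
    P.cop_TR.coprime_dvd_right (Subgroup.card_quotient_dvd_card _)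
  have hfix : ∀ v, (∀ g : (T ⊔ A : Subgroup Γ), (g : Γ) ∈ A → act g v = v) → v = 1 := by
    intro v hv
    obtain ⟨x, rfl⟩ := QuotientGroup.mk_surjective v
    obtain ⟨d, hd, hdx⟩ := Coprime.exists_mem_centralizer_of_coset P.hAR (P.cop_AR S) (Or.inl S.solvable)
      (N := frat R) (frat_le R) (P.hAR.trans (normalizer_le_frat R)) x.2 fun b hb => by
        have h1 := hv ⟨b, Subgroup.mem_sup_right hb⟩ hb
        rw [hact] at h1
        have h2 : Coprime.conjAut hD ⟨b, Subgroup.mem_sup_right hb⟩ x * x⁻¹ ∈ frattini R := by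
          rw [← QuotientGroup.eq_one_iff, QuotientGroup.mk_mul, QuotientGroup.mk_inv, h1, mul_inv_cancel]
        exact ⟨_, h2, rfl⟩
    have hd1 : d = 1 := Subgroup.mem_bot.mp (S.fix.le ⟨P.hRK hd.1, hd.2⟩)
    rw [hd1, one_mul, Subgroup.inv_mem_iff] at hdx
    obtain ⟨y, hy, hyx⟩ := hdx
    rw [Subgroup.coe_subtype] at hyx
    rw [← Subtype.ext hyx]
    exact (QuotientGroup.eq_one_iff y).mpr hy
  intro x hx
  have h := S.fixed_of_fixed P.hTK P.hAT act hcop hfix ha hao (v := ((⟨c, hc⟩ : R) : R ⧸ frattini R))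
    (fun g hg => by
      rw [hact]
      refine congrArg _ (Subtype.ext ?_)
      rw [Coprime.coe_conjAut, hg]
      exact mul_inv_eq_iff_eq_mul.mpr hca)
    (fun g hg => by
      rw [hact]
      refine congrArg _ (Subtype.ext ?_)
      rw [Coprime.coe_conjAut]
      exact mul_inv_eq_iff_eq_mul.mpr (hcM _ hg))
    ⟨x, Subgroup.mem_sup_left hx⟩ hx
  rw [hact] at h
  have h2 : Coprime.conjAut hD ⟨x, Subgroup.mem_sup_left hx⟩ ⟨c, hc⟩ * (⟨c, hc⟩ : R)⁻¹ ∈ frattini R := by
    rw [← QuotientGroup.eq_one_iff, QuotientGroup.mk_mul, QuotientGroup.mk_inv, h, mul_inv_cancel]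
  exact ⟨_, h2, rfl⟩

/-- A stabiliser cannot centralise a non-trivial invariant section of `R`. -/
theorem eq_of_act_trivial (hRT : ⁅R, T⁆ = R) {a : Γ} (ha : a ∈ A) (hao : a = f ∨ orderOf a = q)
    {K' : Subgroup Γ} (hK' : K' ≤ R) (hRn : R ≤ Subgroup.normalizer (K' : Set Γ))
    (hTn : T ≤ Subgroup.normalizer (K' : Set Γ)) (han : a ∈ Subgroup.normalizer (K' : Set Γ))
    (hact : ∀ x ∈ R, a * x * a⁻¹ * x⁻¹ ∈ K') : K' = R := by
  have haker : Subgroup.zpowers a ≤ actKer R K' :=
    Subgroup.zpowers_le.mpr ⟨P.hAR ha, han, hact⟩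
  have hzT : Subgroup.zpowers a ≤ Subgroup.normalizer (T : Set Γ) := (Subgroup.zpowers_le.mpr ha).trans P.hAT
  have hzR : Subgroup.zpowers a ≤ Subgroup.normalizer (R : Set Γ) := (Subgroup.zpowers_le.mpr ha).trans P.hAR
  have hcz : ∀ {H : Subgroup Γ}, (Nat.card A).Coprime (Nat.card H) → (Nat.card (Subgroup.zpowers a)).Coprime (Nat.card H) :=
    fun h => h.coprime_dvd_left (Subgroup.card_dvd_of_le (Subgroup.zpowers_le.mpr ha))
  have hsol : Group.IsSolvable (Subgroup.zpowers a) := by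
    letI := IsCyclic.commGroup (α := Subgroup.zpowers a)
    infer_instance
  have hMker : ⁅T, Subgroup.zpowers a⁆ ≤ actKer R K' := commutator_le_actKer P.hTR hTn haker
  rcases hao with rfl | hao
  · -- the normal complement: its fixed points commute
    have hTker : T ≤ actKer R K' := by
      conv_lhs => rw [← Coprime.commutator_sup_centralizer hzT (hcz (P.cop_AT S)) (Or.inl hsol)]
      refine sup_le hMker fun y hy => ⟨P.hTR hy.1, hTn hy.1, fun x hx => ?_⟩
      obtain ⟨d, hd, hdx⟩ := Coprime.exists_mem_centralizer_of_coset hzR (hcz (P.cop_AR S)) (Or.inl hsol)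
        (N := K') hK' (fun b hb => (haker hb).2.1) hx fun b hb => (haker hb).2.2 x hx
      have hyd : y * d = d * y := S.commute_fixed (P.hTK hy.1) (P.hRK hd.1)
        (Subgroup.mem_centralizer_iff.mp hy.2 a (Subgroup.mem_zpowers a))
        (Subgroup.mem_centralizer_iff.mp hd.2 a (Subgroup.mem_zpowers a))
        ((P.cop_TR.coprime_dvd_left (Subgroup.orderOf_dvd_natCard T hy.1)).coprime_dvd_right
          (Subgroup.orderOf_dvd_natCard R hd.1))
      have hk : x * d⁻¹ ∈ K' := by simpa using inv_mem hdx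
      have e : y * x * y⁻¹ * x⁻¹ = y * (x * d⁻¹) * y⁻¹ * ((y * d) * (d * y)⁻¹) * (d * (x⁻¹ * (x * d⁻¹) * x) * d⁻¹)⁻¹ := by
        group
      rw [e, hyd, mul_inv_cancel, mul_one]
      refine mul_mem ((Subgroup.mem_normalizer_iff.mp (hTn hy.1) _).mp hk) (inv_mem ?_)
      refine (Subgroup.mem_normalizer_iff.mp (hRn hd.1) _).mp ?_
      simpa [mul_assoc] using (Subgroup.mem_normalizer_iff.mp (hRn (inv_mem hx)) _).mp hk
    exact le_antisymm hK' (hRT ▸ commutator_le_of_le_actKer hTker)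
  · refine eq_of_le_sup_frat hK' ?_
    set K'' := K' ⊔ frat R with hK''
    have hK''R : K'' ≤ R := sup_le hK' (frat_le R)
    have hn'' : ∀ {g}, g ∈ Subgroup.normalizer (K' : Set Γ) → g ∈ Subgroup.normalizer (R : Set Γ) →
        g ∈ Subgroup.normalizer (K'' : Set Γ) := fun {g} h1 h2 => Coprime.mem_normalizer_of_forall fun z hz => by
      have h3 : K''.map (MulAut.conj g).toMonoidHom ≤ K'' := by
        rw [hK'', Subgroup.map_sup]
        refine sup_le_sup ?_ ?_
        · rintro _ ⟨w, hw, rfl⟩; exact (Subgroup.mem_normalizer_iff.mp h1 w).mp hw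
        · rintro _ ⟨w, hw, rfl⟩; exact (Subgroup.mem_normalizer_iff.mp (normalizer_le_frat R h2) w).mp hw
      exact h3 ⟨z, hz, rfl⟩
    have hker'' : actKer R K' ≤ actKer R K'' := fun g hg =>
      ⟨hg.1, hn'' hg.2.1 hg.1, fun x hx => Subgroup.mem_sup_left (hg.2.2 x hx)⟩
    have hTker : T ≤ actKer R K'' := fun y hy => by
      refine ⟨P.hTR hy, hn'' (hTn hy) (P.hTR hy), fun x hx => ?_⟩
      have hAker : ⁅T, Subgroup.zpowers a⁆ ⊔ Subgroup.zpowers a ≤ actKer R K'' :=
        (sup_le hMker haker).trans hker''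
      obtain ⟨d, hd, hdx⟩ := Coprime.exists_mem_centralizer_of_coset (P.commutator_sup_le_normalizer S ha)
        (P.cop_commutator_sup S ha) (Or.inr (by
          haveI := Fact.mk P.hr
          haveI := P.hR.isNilpotent
          infer_instance))
        (N := K'') hK''R (fun g hg => (hAker hg).2.1) hx fun g hg => (hAker hg).2.2 x hx
      have hyd := P.fixed_mod_frattini S ha hao hd.1
        (Subgroup.mem_centralizer_iff.mp hd.2 a (Subgroup.mem_sup_right (Subgroup.mem_zpowers a)))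
        (fun u hu => Subgroup.mem_centralizer_iff.mp hd.2 u (Subgroup.mem_sup_left hu)) y hy
      have hRn'' : R ≤ Subgroup.normalizer (K'' : Set Γ) := fun g hg => hn'' (hRn hg) (Subgroup.le_normalizer hg)
      have hk : x * d⁻¹ ∈ K'' := by simpa using inv_mem hdx
      have e : y * x * y⁻¹ * x⁻¹ = y * (x * d⁻¹) * y⁻¹ * (y * d * y⁻¹ * d⁻¹) * (d * (x⁻¹ * (x * d⁻¹) * x) * d⁻¹)⁻¹ := by
        group
      rw [e]
      refine mul_mem (mul_mem ((Subgroup.mem_normalizer_iff.mp (hn'' (hTn hy) (P.hTR hy)) _).mp hk)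
        (Subgroup.mem_sup_right hyd)) (inv_mem ?_)
      refine (Subgroup.mem_normalizer_iff.mp (hRn'' hd.1) _).mp ?_
      simpa [mul_assoc] using (Subgroup.mem_normalizer_iff.mp (hRn'' (inv_mem hx)) _).mp hk
    exact hRT.ge.trans (commutator_le_of_le_actKer hTker)

end Pair

end Cfsg.Agent.PQFit
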