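import Cfsg.Agent.EqLemmas

/-!
Non-abelian groups of order `p q` (owner: helper77).

* `Frob` : `A` is non-abelian of order `p q`, `q ∣ p - 1`, `f` generates the normal subgroup of order `p`
* `exists_frob`, `Frob.cases`, `Frob.sup_conj`
-/

set_option autoImplicit false

namespace Cfsg.Agent.PQFit

variable {Γ : Type*} [Group Γ]

/-- A non-abelian group of order `p q` with normal subgroup `⟨f⟩` of order `p`. -/
structure Frob (A : Subgroup Γ) (p q : ℕ) (f : Γ) : Prop where
  hp : p.Prime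
  hq : q.Prime
  dvd : q ∣ p - 1
  card : Nat.card A = p * q
  fA : f ∈ A
  orderf : orderOf f = p
  normal : A ≤ Subgroup.normalizer (Subgroup.zpowers f : Set Γ)
  mem_of_pow : ∀ a ∈ A, a ^ p = 1 → a ∈ Subgroup.zpowers f
  not_comm : ∀ h ∈ A, orderOf h = q → h * f ≠ f * h

theorem exists_frob_aux [Finite Γ] {A : Subgroup Γ} {p q : ℕ} (hp : p.Prime) (hq : q.Prime) (hlt : q < p)
    (hA : Nat.card A = p * q) (hna : ¬ IsMulCommutative A) : ∃ f : Γ, Frob A p q f := by
  haveI := Fact.mk hp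
  haveI := Fact.mk hq
  obtain ⟨f, hf⟩ := exists_prime_orderOf_dvd_card' (G := A) p (hA ▸ dvd_mul_right p q)
  have hP : Nat.card (Subgroup.zpowers f) = p ^ (Nat.card A).factorization p := by
    rw [Nat.card_zpowers, hf, hA, Nat.factorization_mul hp.ne_zero hq.ne_zero, Finsupp.add_apply,
      hp.factorization_self, Nat.factorization_eq_zero_of_not_dvd
        (fun h => hlt.ne ((Nat.prime_dvd_prime_iff_eq hp hq).mp h).symm), add_zero, pow_one]
  let P : Sylow p A := Sylow.ofCard (Subgroup.zpowers f) hP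
  have hPi : (P : Subgroup A).index = q := by
    have h1 := (Subgroup.zpowers f).card_mul_index
    rw [Nat.card_zpowers, hf, hA] at h1
    exact Nat.eq_of_mul_eq_mul_left hp.pos h1
  have hone : Nat.card (Sylow p A) = 1 := by
    have h1 := P.card_dvd_index
    rw [hPi] at h1
    rcases (Nat.dvd_prime hq).mp h1 with h | h
    · exact h
    · exfalso
      have h2 := card_sylow_modEq_one p A
      rw [h] at h2
      have h3 := Nat.le_of_dvd (by have := hq.two_le; omega) ((Nat.modEq_iff_dvd' hq.one_le).mp h2.symm)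
      omega
  haveI : Subsingleton (Sylow p A) := (Nat.card_eq_one_iff_unique.mp hone).1
  have hn : (Subgroup.zpowers f).Normal := Sylow.normal_of_subsingleton P
  have hmem : ∀ a : A, a ^ p = 1 → a ∈ Subgroup.zpowers f := by
    intro a ha
    have hpg : IsPGroup p (Subgroup.zpowers a) := by
      rcases (Nat.dvd_prime hp).mp (orderOf_dvd_of_pow_eq_one ha) with h | h
      · exact IsPGroup.of_card (n := 0) (by rw [Nat.card_zpowers, h, pow_zero])
      · exact IsPGroup.of_card (n := 1) (by rw [Nat.card_zpowers, h, pow_one])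
    obtain ⟨Q, hQ⟩ := hpg.exists_le_sylow
    rw [Subsingleton.elim Q P] at hQ
    exact hQ (Subgroup.mem_zpowers a)
  have hcomm : ∀ h : A, orderOf h = q → h * f ≠ f * h := by
    intro h ho hc
    have h1 : orderOf (h * f) = p * q := by
      rw [(show Commute h f from hc).orderOf_mul_eq_mul_orderOf_of_coprime
        (by rw [ho, hf]; exact (Nat.coprime_primes hq hp).mpr hlt.ne), ho, hf, mul_comm]
    have htop : Subgroup.zpowers (h * f) = ⊤ :=
      Subgroup.eq_top_of_card_eq _ (by rw [Nat.card_zpowers, h1, hA])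
    refine hna ⟨⟨fun a b => ?_⟩⟩
    obtain ⟨i, hi⟩ := Subgroup.mem_zpowers_iff.mp (htop ▸ Subgroup.mem_top a)
    obtain ⟨j, hj⟩ := Subgroup.mem_zpowers_iff.mp (htop ▸ Subgroup.mem_top b)
    rw [← hi, ← hj, ← zpow_add, ← zpow_add, add_comm]
  have hdvd : q ∣ p - 1 := by
    obtain ⟨h, hh⟩ := exists_prime_orderOf_dvd_card' (G := A) q (hA ▸ dvd_mul_left q p)
    have hQ : Nat.card (Subgroup.zpowers h) = q ^ (Nat.card A).factorization q := by
      rw [Nat.card_zpowers, hh, hA, Nat.factorization_mul hp.ne_zero hq.ne_zero, Finsupp.add_apply,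
        hq.factorization_self, Nat.factorization_eq_zero_of_not_dvd
          (fun h => hlt.ne ((Nat.prime_dvd_prime_iff_eq hq hp).mp h)), zero_add, pow_one]
    let Q : Sylow q A := Sylow.ofCard (Subgroup.zpowers h) hQ
    have hQi : (Q : Subgroup A).index = p := by
      have h1 := (Subgroup.zpowers h).card_mul_index
      rw [Nat.card_zpowers, hh, hA, mul_comm p q] at h1
      exact Nat.eq_of_mul_eq_mul_left hq.pos h1
    have h1 := Q.card_dvd_index
    rw [hQi] at h1
    rcases (Nat.dvd_prime hp).mp h1 with h2 | h2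
    · exfalso
      haveI : Subsingleton (Sylow q A) := (Nat.card_eq_one_iff_unique.mp h2).1
      have hQn : (Q : Subgroup A).Normal := Sylow.normal_of_subsingleton Q
      refine hcomm h hh ?_
      have hd : Disjoint (Q : Subgroup A) (P : Subgroup A) := Subgroup.disjoint_of_coprime_natCard (by
        show (Nat.card (Subgroup.zpowers h)).Coprime (Nat.card (Subgroup.zpowers f))
        rw [Nat.card_zpowers, Nat.card_zpowers, hh, hf]; exact (Nat.coprime_primes hq hp).mpr hlt.ne)
      exact Subgroup.commute_of_normal_of_disjoint _ _ hQn hn hd h f (Subgroup.mem_zpowers h) (Subgroup.mem_zpowers f)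
    · have h3 := card_sylow_modEq_one q A
      rw [h2] at h3
      exact (Nat.modEq_iff_dvd' hp.one_le).mp h3.symm
  refine ⟨f, hp, hq, hdvd, hA, f.2, by rw [Subgroup.orderOf_coe, hf], ?_, ?_, ?_⟩
  · intro a ha
    have hfz : Subgroup.zpowers (f : Γ) = (Subgroup.zpowers f).map A.subtype := (A.subtype.map_zpowers f).symm
    rw [hfz, Subgroup.mem_normalizer_iff]
    intro x
    constructor
    · rintro ⟨y, hy, rfl⟩
      exact ⟨⟨a, ha⟩ * y * ⟨a, ha⟩⁻¹, hn.conj_mem y hy _, rfl⟩
    · rintro ⟨y, hy, he⟩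
      refine ⟨⟨a, ha⟩⁻¹ * y * ⟨a, ha⟩, ?_, ?_⟩
      · simpa using hn.conj_mem y hy ⟨a, ha⟩⁻¹
      · have h1 : a⁻¹ * (y : Γ) * a = x := by
          rw [show (y : Γ) = a * x * a⁻¹ from he]; group
        exact h1
  · intro a ha hap
    obtain ⟨i, hi⟩ := Subgroup.mem_zpowers_iff.mp (hmem ⟨a, ha⟩ (Subtype.ext hap))
    exact Subgroup.mem_zpowers_iff.mpr ⟨i, by simpa using congrArg Subtype.val hi⟩
  · intro h hh ho hc
    exact hcomm ⟨h, hh⟩ (by rwa [← Subgroup.orderOf_coe]) (Subtype.ext hc)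

/-- The two primes can be named so that the subgroup of order `p` is normal. -/
theorem exists_frob [Finite Γ] {A : Subgroup Γ} {p q : ℕ} (hp : p.Prime) (hq : q.Prime) (hne : p ≠ q)
    (hA : Nat.card A = p * q) (hna : ¬ IsMulCommutative A) :
    ∃ p' q' : ℕ, ∃ f : Γ, Frob A p' q' f := by
  rcases lt_or_gt_of_ne hne with h | h
  · exact ⟨q, p, exists_frob_aux hq hp h (by rw [hA, mul_comm]) hna⟩
  · exact ⟨p, q, exists_frob_aux hp hq h hA hna⟩

namespace Frob

variable [Finite Γ] {A : Subgroup Γ} {p q : ℕ} {f : Γ} (hF : Frob A p q f)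

include hF

theorem q_lt : q < p := by
  have h1 := hF.hp.two_le
  have h2 := Nat.le_of_dvd (by omega) hF.dvd
  omega

theorem ne : p ≠ q := hF.q_lt.ne'

theorem f_ne : f ≠ 1 := fun h => by
  have := hF.orderf
  rw [h, orderOf_one] at this
  exact hF.hp.one_lt.ne this

theorem card_eq {S : Subgroup Γ} (hS : S ≤ A) :
    Nat.card S = 1 ∨ Nat.card S = p ∨ Nat.card S = q ∨ S = A := by
  have h := Subgroup.card_dvd_of_le hS
  rw [hF.card] at h
  obtain ⟨a, b, ha, hb, he⟩ := exists_dvd_and_dvd_of_dvd_mul h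
  rcases (Nat.dvd_prime hF.hp).mp ha with rfl | rfl <;> rcases (Nat.dvd_prime hF.hq).mp hb with rfl | rfl
  · left; simpa using he
  · right; right; left; simpa using he
  · right; left; simpa using he
  · right; right; right
    exact Subgroup.eq_of_le_of_card_ge hS (by rw [hF.card, he])

theorem eq_A {S : Subgroup Γ} (hS : S ≤ A) (hf : f ∈ S) {h : Γ} (hh : h ∈ S) (ho : orderOf h = q) : S = A := by
  have h1 : p ∣ Nat.card S := hF.orderf ▸ Subgroup.orderOf_dvd_natCard S hf
  have h2 : q ∣ Nat.card S := ho ▸ Subgroup.orderOf_dvd_natCard S hh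
  refine Subgroup.eq_of_le_of_card_ge hS ?_
  rw [hF.card]
  exact Nat.le_of_dvd Nat.card_pos (((Nat.coprime_primes hF.hp hF.hq).mpr hF.ne).mul_dvd_of_dvd_of_dvd h1 h2)

/-- The proper non-trivial subgroups. -/
theorem cases {S : Subgroup Γ} (hS : S ≤ A) (h1 : S ≠ ⊥) (h2 : S ≠ A) :
    ∃ a, Subgroup.zpowers a = S ∧ (a = f ∨ orderOf a = q) := by
  rcases hF.card_eq hS with h | h | h | h
  · exact absurd (Subgroup.eq_bot_of_card_eq S h) h1
  · refine ⟨f, ?_, Or.inl rfl⟩
    have hle : S ≤ Subgroup.zpowers f := fun a ha => hF.mem_of_pow a (hS ha) (by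
      have h3 : (⟨a, ha⟩ : S) ^ p = 1 := h ▸ pow_card_eq_one'
      exact congrArg Subtype.val h3)
    exact (Subgroup.eq_of_le_of_card_ge hle (by rw [Nat.card_zpowers, hF.orderf, h])).symm
  · haveI := Fact.mk hF.hq
    obtain ⟨x, hx⟩ := exists_prime_orderOf_dvd_card' (G := S) q (dvd_of_eq h.symm)
    have hxo : orderOf (x : Γ) = q := (Subgroup.orderOf_coe x).trans hx
    exact ⟨x, Subgroup.eq_of_le_of_card_ge (Subgroup.zpowers_le.mpr x.2) (by rw [Nat.card_zpowers, hxo, h]),
      Or.inr hxo⟩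
  · exact absurd h h2

theorem mem_of_cases {a : Γ} {S : Subgroup Γ} (hS : S ≤ A) (h : Subgroup.zpowers a = S) : a ∈ A :=
  hS (h ▸ Subgroup.mem_zpowers a)

/-- A complement and one of its conjugates generate. -/
theorem sup_conj {h : Γ} (hh : h ∈ A) (ho : orderOf h = q) {b : Γ} (hb : b ∈ Subgroup.zpowers f) (hb1 : b ≠ 1) :
    Subgroup.zpowers h ⊔ Subgroup.zpowers (b * h * b⁻¹) = A := by
  have hbA : b ∈ A := Subgroup.zpowers_le.mpr hF.fA hb
  set S := Subgroup.zpowers h ⊔ Subgroup.zpowers (b * h * b⁻¹) with hS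
  have hle : S ≤ A := sup_le (Subgroup.zpowers_le.mpr hh)
    (Subgroup.zpowers_le.mpr (mul_mem (mul_mem hbA hh) (inv_mem hbA)))
  have hhS : h ∈ S := Subgroup.mem_sup_left (Subgroup.mem_zpowers h)
  have hc : b * h * b⁻¹ * h⁻¹ ∈ S :=
    mul_mem (Subgroup.mem_sup_right (Subgroup.mem_zpowers _)) (inv_mem hhS)
  have hcf : b * h * b⁻¹ * h⁻¹ ∈ Subgroup.zpowers f := by
    rw [show b * h * b⁻¹ * h⁻¹ = b * (h * b⁻¹ * h⁻¹) by group]
    exact mul_mem hb ((Subgroup.mem_normalizer_iff.mp (hF.normal hh) _).mp (inv_mem hb))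
  have hne : b * h * b⁻¹ * h⁻¹ ≠ 1 := by
    intro he
    rw [mul_inv_eq_one, mul_inv_eq_iff_eq_mul] at he
    refine hF.not_comm h hh ho ?_
    haveI := Fact.mk hF.hp
    have hzb : Subgroup.zpowers b = Subgroup.zpowers f := by
      have hd : orderOf b = p := by
        have h3 := Subgroup.orderOf_dvd_natCard _ hb
        rw [Nat.card_zpowers, hF.orderf] at h3
        exact ((Nat.dvd_prime hF.hp).mp h3).resolve_left fun h4 => hb1 (orderOf_eq_one_iff.mp h4)
      exact Subgroup.eq_of_le_of_card_ge (Subgroup.zpowers_le.mpr hb)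
        (by rw [Nat.card_zpowers, Nat.card_zpowers, hd, hF.orderf])
    obtain ⟨i, hi⟩ := Subgroup.mem_zpowers_iff.mp (hzb.ge (Subgroup.mem_zpowers f))
    rw [← hi]
    exact ((show Commute b h from he).symm.zpow_right i).eq
  have hfS : f ∈ S := by
    have hz : Subgroup.zpowers (b * h * b⁻¹ * h⁻¹) = Subgroup.zpowers f := by
      have h3 := Subgroup.orderOf_dvd_natCard _ hcf
      rw [Nat.card_zpowers, hF.orderf] at h3
      have hd := ((Nat.dvd_prime hF.hp).mp h3).resolve_left fun h4 => hne (orderOf_eq_one_iff.mp h4)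
      exact Subgroup.eq_of_le_of_card_ge (Subgroup.zpowers_le.mpr hcf)
        (by rw [Nat.card_zpowers, Nat.card_zpowers, hd, hF.orderf])
    exact (hz ▸ Subgroup.zpowers_le.mpr hc : Subgroup.zpowers f ≤ S) (Subgroup.mem_zpowers f)
  exact hF.eq_A hle hfS hhS ho

end Frob

end Cfsg.Agent.PQFit
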