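import Cfsg.Agent.Lib.FixedFormula.Frobenius

/-!
An element of order `2^m + 1` normalising an abelian group of symplectic automorphisms (owner: helper77).

* `eq_one_of_symplectic`
-/

set_option autoImplicit false

namespace Cfsg.Agent.PQFit

open scoped IsMulCommutative

variable {E : Type*} [CommGroup E]

/-- `e ↦ α e / e` -/
def moved (α : MulAut E) : E →* E := α.toMonoidHom / MonoidHom.id E

theorem moved_apply (α : MulAut E) (e : E) : moved α e = α e / e := rfl

theorem mem_ker_moved {α : MulAut E} {e : E} : e ∈ (moved α).ker ↔ α e = e := by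
  rw [MonoidHom.mem_ker, moved_apply, div_eq_one]

/-- additive endomorphisms -/
def adEnd : MulAut E →* AddMonoid.End (Additive E) where
  toFun g := MonoidHom.toAdditive g.toMonoidHom
  map_one' := rfl
  map_mul' _ _ := rfl

theorem adEnd_apply (g : MulAut E) (e : E) : adEnd g (Additive.ofMul e) = Additive.ofMul (g e) := rfl

theorem pow_two_pow_add (h2 : ∀ e : E, e ^ 2 = 1) {g h : AddMonoid.End (Additive E)} (hc : g * h = h * g) :
    ∀ m : ℕ, (g + h) ^ 2 ^ m = g ^ 2 ^ m + h ^ 2 ^ m := by
  have hzero : ∀ u : AddMonoid.End (Additive E), u + u = 0 := fun u => by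
    refine AddMonoidHom.ext fun v => ?_
    show u v + u v = 0
    rw [← two_nsmul]
    exact congrArg Additive.ofMul (h2 (u v).toMul)
  intro m
  induction m with
  | zero => simp
  | succ m ih =>
    have hc' : g ^ 2 ^ m * h ^ 2 ^ m = h ^ 2 ^ m * g ^ 2 ^ m := ((show Commute g h from hc).pow_pow _ _).eq
    rw [pow_succ 2 m, pow_mul, ih, sq, add_mul, mul_add, mul_add, ← sq, ← sq, ← pow_mul, ← pow_mul, hc',
      show g ^ (2 ^ m * 2) + h ^ 2 ^ m * g ^ 2 ^ m + (h ^ 2 ^ m * g ^ 2 ^ m + h ^ (2 ^ m * 2)) =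
        g ^ (2 ^ m * 2) + (h ^ 2 ^ m * g ^ 2 ^ m + h ^ 2 ^ m * g ^ 2 ^ m) + h ^ (2 ^ m * 2) by abel,
      hzero, add_zero]

theorem exp_lt_bound {m q n : ℕ} (hm : 1 ≤ m) (hqm : q = 2 ^ m + 1) (hn : n ≤ 2 * m) (h : q ∣ 2 ^ n - 1) :
    n = 0 ∨ n = 2 * m := by
  rcases Nat.eq_zero_or_pos n with h0 | h0
  · exact Or.inl h0
  refine Or.inr ?_
  by_contra hne
  rcases le_or_gt n m with hle | hgt
  · have h1 : 2 ^ n ≤ 2 ^ m := Nat.pow_le_pow_right two_pos hle
    have h2 : 2 ≤ 2 ^ n := Nat.le_self_pow (by omega) 2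
    have := Nat.le_of_dvd (by omega) h
    omega
  · obtain ⟨i, rfl⟩ : ∃ i, n = m + i := ⟨n - m, by omega⟩
    have hi : i < m := by omega
    have h1 : 2 ^ (m + i) = 2 ^ m * 2 ^ i := pow_add 2 m i
    have h3 : 2 ^ i < 2 ^ m := Nat.pow_lt_pow_right (by norm_num) hi
    have h4 : 1 ≤ 2 ^ i := Nat.one_le_pow _ _ two_pos
    obtain ⟨k, hk⟩ := h
    have h5 : (2 ^ i) * q = 2 ^ (m + i) + 2 ^ i := by rw [hqm, h1]; ring
    have h6 : q ∣ 2 ^ i + 1 := by
      refine ⟨2 ^ i - k, ?_⟩
      have hkle : k ≤ 2 ^ i := by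
        by_contra hk'
        have : 2 ^ i * q < q * k := by
          rw [mul_comm (2 ^ i)]; exact Nat.mul_lt_mul_of_pos_left (by omega) (by omega)
        omega
      rw [Nat.mul_sub, mul_comm q (2 ^ i), ← hk, h5]
      have : 1 ≤ 2 ^ (m + i) := Nat.one_le_pow _ _ two_pos
      omega
    have := Nat.le_of_dvd (by omega) h6
    omega

variable [Finite E]

/-- No non-trivial configuration. -/
theorem eq_one_of_symplectic (h2 : ∀ e : E, e ^ 2 = 1) {C : Type*} [CommGroup C] (c : E →* E →* C)
    (halt : ∀ e, c e e = 1) (hnd : ∀ e, (∀ e', c e e' = 1) → e = 1)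
    (T : Subgroup (MulAut E)) (hTab : ∀ σ ∈ T, ∀ τ ∈ T, σ * τ = τ * σ) (hTodd : Odd (Nat.card T))
    {q m : ℕ} (hq : q.Prime) (hqm : q = 2 ^ m + 1) (hm : 1 ≤ m) (hTq : ¬ q ∣ Nat.card T)
    (α : MulAut E) (hαq : α ^ q = 1) (hαT : ∀ τ ∈ T, α * τ * α⁻¹ ∈ T)
    (hTinv : ∀ τ ∈ T, ∀ x y, c (τ x) (τ y) = c x y) (hαinv : ∀ x y, c (α x) (α y) = c x y)
    (hfixT : ∀ e, (∀ τ ∈ T, τ e = e) → e = 1)
    (hbound : Nat.card (moved α).range ≤ 2 ^ (2 * m))
    (hL : ∀ e, α e = e → (∀ τ ∈ T, (τ⁻¹ * α * τ * α⁻¹) e = e) → e = 1) : ∀ e : E, e = 1 := by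
  classical
  haveI := Fact.mk hq
  haveI := Fact.mk Nat.prime_two
  have hm2 : 2 ≤ 2 ^ m := Nat.le_self_pow (by omega) 2
  have hsq : ∀ x y, c x y ^ 2 = 1 := fun x y => by rw [← map_pow, h2, map_one]
  have hodd : ∀ {n : ℕ}, Odd n → ∀ x : E, x ^ n = x := by
    rintro n ⟨k, rfl⟩ x
    rw [pow_succ, pow_mul, h2, one_pow, one_mul]
  have hcodd : ∀ {n : ℕ}, Odd n → ∀ x y, c x y ^ n = c x y := by
    rintro n ⟨k, rfl⟩ x y
    rw [pow_succ, pow_mul, hsq, one_pow, one_mul]
  have hqodd : Odd q := by rw [hqm]; exact ((Nat.even_pow.mpr ⟨even_two, by omega⟩).add_one)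
  have hαcard : orderOf α ∣ q := orderOf_dvd_of_pow_eq_one hαq
  -- `[T, α]`
  let ψ : T →* MulAut E := MonoidHom.mk' (fun τ => α * τ * α⁻¹ * (τ : MulAut E)⁻¹) fun σ τ => by
    have h1 : α * τ * α⁻¹ * (σ : MulAut E)⁻¹ = (σ : MulAut E)⁻¹ * (α * τ * α⁻¹) :=
      hTab _ (hαT _ τ.2) _ (inv_mem σ.2)
    have h2' : (σ : MulAut E)⁻¹ * (τ : MulAut E)⁻¹ = (τ : MulAut E)⁻¹ * (σ : MulAut E)⁻¹ :=
      hTab _ (inv_mem σ.2) _ (inv_mem τ.2)
    rw [Subgroup.coe_mul, mul_inv_rev, ← h2']
    calc α * (σ * τ : MulAut E) * α⁻¹ * ((σ : MulAut E)⁻¹ * (τ : MulAut E)⁻¹)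
        = α * σ * α⁻¹ * (α * τ * α⁻¹ * (σ : MulAut E)⁻¹) * (τ : MulAut E)⁻¹ := by group
      _ = α * σ * α⁻¹ * (σ : MulAut E)⁻¹ * (α * τ * α⁻¹ * (τ : MulAut E)⁻¹) := by rw [h1]; group
  set U := ψ.range with hUdef
  have hUT : U ≤ T := by
    rintro _ ⟨τ, rfl⟩
    exact mul_mem (hαT _ τ.2) (inv_mem τ.2)
  have hUodd : Odd (Nat.card U) := hTodd.of_dvd_nat (Subgroup.card_dvd_of_le hUT)
  have hαU : ∀ u ∈ U, α * u * α⁻¹ ∈ U := by
    rintro _ ⟨τ, rfl⟩
    refine ⟨⟨α * τ * α⁻¹, hαT _ τ.2⟩, ?_⟩
    show α * (α * τ * α⁻¹) * α⁻¹ * (α * τ * α⁻¹)⁻¹ = α * (α * τ * α⁻¹ * (τ : MulAut E)⁻¹) * α⁻¹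
    group
  have hUfix : ∀ u ∈ U, α * u * α⁻¹ = u → u = 1 := by
    rintro _ ⟨τ, rfl⟩ hu
    set u := ψ τ with hu'
    have hstep : ∀ i : ℕ, α ^ i * τ * (α ^ i)⁻¹ = u ^ i * τ := by
      intro i
      induction i with
      | zero => simp
      | succ i ih =>
        have h1 : Commute α u := by
          show α * u = u * α
          conv_rhs => rw [← hu]
          group
        calc α ^ (i + 1) * τ * (α ^ (i + 1))⁻¹ = α * (α ^ i * τ * (α ^ i)⁻¹) * α⁻¹ := by rw [pow_succ']; group
          _ = (α * u ^ i) * τ * α⁻¹ := by rw [ih]; group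
          _ = u ^ i * (α * τ * α⁻¹ * (τ : MulAut E)⁻¹) * τ := by rw [(h1.pow_right i).eq]; group
          _ = u ^ (i + 1) * τ := by rw [pow_succ, hu']; rfl
    have huq : u ^ q = 1 := by
      have := hstep q
      rw [hαq, one_mul, inv_one, mul_one] at this
      exact mul_right_cancel (b := (τ : MulAut E)) (by rw [← this, one_mul])
    have hc : orderOf u ∣ Nat.card T := Subgroup.orderOf_dvd_natCard T (mul_mem (hαT _ τ.2) (inv_mem τ.2))
    rcases (Nat.dvd_prime hq).mp (orderOf_dvd_of_pow_eq_one huq) with h | h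
    · exact orderOf_eq_one_iff.mp h
    · exact absurd (h ▸ hc) hTq
  -- averaging over `U`
  letI := Fintype.ofFinite U
  let NU : E →* E := ∏ u : U, (u : MulAut E).toMonoidHom
  have hNU : ∀ e, NU e = ∏ u : U, (u : MulAut E) e := fun e => by
    simp only [NU, MonoidHom.finsetProd_apply]; rfl
  have hNUl : ∀ (u : U) e, (u : MulAut E) (NU e) = NU e := fun u e => by
    rw [hNU, map_prod]
    exact Fintype.prod_equiv (Equiv.mulLeft u) _ _ fun v => rfl
  have hNUfix : ∀ e, (∀ u ∈ U, u e = e) → NU e = e := fun e he => by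
    rw [hNU, Finset.prod_congr rfl fun (u : U) _ => he _ u.2, Finset.prod_const, Finset.card_univ,
      ← Nat.card_eq_fintype_card, hodd hUodd]
  set EU := NU.ker with hEU
  -- `U` is trivial
  have hU1 : U = ⊥ := by
    have hEUinv : ∀ g ∈ (U ⊔ Subgroup.zpowers α), ∀ e ∈ EU, g e ∈ EU := by
      let Z : Subgroup (MulAut E) :=
        { carrier := {g | ∀ e, NU (g e) = g (NU e)}
          one_mem' := fun e => rfl
          mul_mem' := fun {g h} hg hh e => by rw [MulAut.mul_apply, hg, hh]; rfl
          inv_mem' := fun {g} hg e => by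
            apply g.injective
            rw [← hg, MulAut.apply_inv_self, MulAut.apply_inv_self] }
      have hle : U ⊔ Subgroup.zpowers α ≤ Z := by
        refine sup_le (fun g hg e => ?_) (Subgroup.zpowers_le.mpr fun e => ?_)
        · rw [hNU, hNU, map_prod]
          refine Fintype.prod_congr _ _ fun u => ?_
          rw [← MulAut.mul_apply, ← MulAut.mul_apply, hTab g (hUT hg) u (hUT u.2)]
        · rw [hNU, hNU, map_prod]
          refine (Fintype.prod_equiv
            { toFun := fun u : U => (⟨α * u * α⁻¹, hαU _ u.2⟩ : U)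
              invFun := fun u : U => (⟨α⁻¹ * u * α, by
                have hpow : ∀ i : ℕ, ∀ v ∈ U, α ^ i * v * (α ^ i)⁻¹ ∈ U := by
                  intro i
                  induction i with
                  | zero => simp
                  | succ i ih =>
                    intro v hv
                    rw [show α ^ (i + 1) * v * (α ^ (i + 1))⁻¹ = α * (α ^ i * v * (α ^ i)⁻¹) * α⁻¹ by
                      rw [pow_succ']; group]
                    exact hαU _ (ih v hv)
                have h1 := hpow (q - 1) u u.2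
                have h2 : α ^ (q - 1) = α⁻¹ := by
                  rw [eq_inv_iff_mul_eq_one, ← pow_succ, Nat.sub_add_cancel hq.one_le, hαq]
                rwa [h2, inv_inv] at h1⟩ : U)
              left_inv := fun u => Subtype.ext (by simp [mul_assoc])
              right_inv := fun u => Subtype.ext (by simp [mul_assoc]) } _ _ fun u => ?_).symm
          show α ((u : MulAut E) e) = (α * u * α⁻¹) (α e)
          simp
      intro g hg e he
      rw [hEU, MonoidHom.mem_ker] at he ⊢
      rw [hle hg, he, map_one]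
    set Gf := U ⊔ Subgroup.zpowers α with hGf
    let φ : Gf →* MulAut EU := FixedFormula.restrictAct Gf.subtype EU fun g e he => hEUinv g g.2 e he
    have hαn : Subgroup.zpowers α ≤ Subgroup.normalizer (U : Set (MulAut E)) :=
      Subgroup.zpowers_le.mpr (Subgroup.mem_normalizer_iff.mpr fun u => ⟨fun hu => hαU u hu, fun hu => by
        have hfin : {v | v ∈ U}.MapsTo (fun v => α * v * α⁻¹) {v | v ∈ U} := fun v hv => hαU v hv
        obtain ⟨⟨v, hv⟩, he⟩ := Finite.surjective_of_injective (α := U)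
          (f := fun v => ⟨α * v * α⁻¹, hfin v.2⟩) (fun v w h => Subtype.ext (by simpa using congrArg Subtype.val h))
          ⟨_, hu⟩
        have h1 : v = u := by simpa using congrArg Subtype.val he
        exact h1 ▸ hv⟩)
    have hzq : ∀ g ∈ Subgroup.zpowers α, g ≠ 1 → α ∈ Subgroup.zpowers g := fun g hg hg1 => by
      have hgq : orderOf g = q := ((Nat.dvd_prime hq).mp
        (((Subgroup.orderOf_dvd_natCard _ hg).trans (dvd_of_eq (Nat.card_zpowers α))).trans hαcard)).resolve_left
          fun h => hg1 (orderOf_eq_one_iff.mp h)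
      have h1 : Subgroup.zpowers g = Subgroup.zpowers α :=
        Subgroup.eq_of_le_of_card_ge (Subgroup.zpowers_le.mpr hg)
          (by rw [Nat.card_zpowers, Nat.card_zpowers, hgq]; exact Nat.le_of_dvd hq.pos hαcard)
      exact h1.ge (Subgroup.mem_zpowers α)
    have hD : FixedFormula.FrobData (U.subgroupOf Gf) ((Subgroup.zpowers α).subgroupOf Gf) := by
      refine ⟨(Subgroup.normal_subgroupOf_iff_le_normalizer le_sup_left).mpr (sup_le Subgroup.le_normalizer hαn),
        ?_, ?_, ?_⟩
      · rw [eq_bot_iff]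
        rintro x ⟨hx1, hx2⟩
        by_contra hx
        have hx' : (x : MulAut E) ≠ 1 := fun h => hx (Subgroup.mem_bot.mpr (Subtype.ext h))
        have hαU' : α ∈ U := (Subgroup.zpowers_le.mpr (show (x : MulAut E) ∈ U from hx1)) (hzq _ hx2 hx')
        refine hx' (hUfix _ hx1 ?_)
        rw [hTab α (hUT hαU') (x : MulAut E) (hUT hx1), mul_inv_cancel_right]
      · rw [← Subgroup.subgroupOf_sup le_sup_left le_sup_right, Subgroup.subgroupOf_self]
      · intro e he he1 u hu hc
        refine Subtype.ext (hUfix _ hu ?_)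
        have he' : (e : MulAut E) ≠ 1 := fun h => he1 (Subtype.ext h)
        obtain ⟨i, hi⟩ := Subgroup.mem_zpowers_iff.mp (hzq _ he he')
        have h1 : Commute α (u : MulAut E) := by
          rw [← hi]
          exact (show Commute (e : MulAut E) (u : MulAut E) from congrArg Subtype.val hc).zpow_left i
        rw [h1.eq, mul_inv_cancel_right]
    have hGcop : (Nat.card Gf).Coprime 2 := by
      rw [hD.card, Nat.card_congr (Subgroup.subgroupOfEquivOfLe le_sup_left).toEquiv,
        Nat.card_congr (Subgroup.subgroupOfEquivOfLe le_sup_right).toEquiv, Nat.card_zpowers, Nat.coprime_comm,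
        Nat.prime_two.coprime_iff_not_dvd, ← even_iff_two_dvd, Nat.not_even_iff_odd]
      exact hUodd.mul (hqodd.of_dvd_nat hαcard)
    have hEU2 : ∀ a : EU, a ^ 2 = 1 := fun a => Subtype.ext (h2 a)
    have hform := FixedFormula.elementary_formula hD (A := EU) hEU2 hGcop φ
    have hfU : FixedFormula.fixBy φ (U.subgroupOf Gf) = ⊥ := by
      rw [eq_bot_iff]
      intro e he
      refine Subgroup.mem_bot.mpr (Subtype.ext ?_)
      have h1 : NU (e : E) = e := hNUfix _ fun u hu =>
        congrArg Subtype.val (he ⟨u, Subgroup.mem_sup_left hu⟩ hu)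
      exact h1.symm.trans (MonoidHom.mem_ker.mp e.2)
    have hfT : FixedFormula.fixBy φ ⊤ = ⊥ := by
      rw [eq_bot_iff, ← hfU]
      exact fun e he k _ => he k trivial
    rw [hfU, hfT, Subgroup.card_bot, one_pow, one_mul, mul_one,
      Nat.card_congr (Subgroup.subgroupOfEquivOfLe le_sup_right).toEquiv, Nat.card_zpowers] at hform
    by_contra hUne
    have hαne : orderOf α = q := ((Nat.dvd_prime hq).mp hαcard).resolve_left fun h => by
      apply hUne
      rw [eq_bot_iff]
      intro u hu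
      exact Subgroup.mem_bot.mpr (hUfix u hu (by rw [orderOf_eq_one_iff.mp h]; group))
    rw [hαne] at hform
    set Fx := FixedFormula.fixBy φ ((Subgroup.zpowers α).subgroupOf Gf) with hFx
    have hFx' : ∀ e : EU, e ∈ Fx ↔ α e = e := by
      intro e
      constructor
      · intro he
        exact congrArg Subtype.val (he ⟨α, Subgroup.mem_sup_right (Subgroup.mem_zpowers α)⟩ (Subgroup.mem_zpowers α))
      · intro he k hk
        obtain ⟨i, hi⟩ := Subgroup.mem_zpowers_iff.mp (hk : (k : MulAut E) ∈ Subgroup.zpowers α)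
        refine Subtype.ext ?_
        show (k : MulAut E) (e : E) = e
        rw [show (k : MulAut E) = α ^ i from hi.symm]
        exact MulAction.mem_stabilizer_iff.mp
          (Subgroup.zpow_mem (MulAction.stabilizer (MulAut E) (e : E)) (MulAction.mem_stabilizer_iff.mpr he) i)
    -- the moved part of `EU` is bounded
    have hle : Nat.card EU ≤ Nat.card Fx * 2 ^ (2 * m) := by
      let g : EU →* E := (moved α).comp EU.subtype
      have hk : g.ker = Fx := by
        ext e
        rw [hFx', MonoidHom.mem_ker, MonoidHom.comp_apply, moved_apply, div_eq_one]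
        rfl
      rw [← Subgroup.card_mul_index g.ker, Subgroup.index_ker, hk]
      refine Nat.mul_le_mul_left _ (le_trans (Subgroup.card_le_of_le ?_) hbound)
      rintro _ ⟨e, rfl⟩
      exact ⟨e, rfl⟩
    have hpow : Nat.card Fx ^ (q - 1) ≤ 2 ^ (2 * m) := by
      rw [hform] at hle
      refine Nat.le_of_mul_le_mul_left ?_ (Nat.card_pos (α := Fx))
      rwa [← pow_succ', Nat.sub_add_cancel hq.one_le]
    have hEUne : Nat.card Fx ≠ 1 := by
      intro h1
      rw [h1, one_pow] at hform
      apply hUne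
      rw [eq_bot_iff]
      intro u hu
      refine Subgroup.mem_bot.mpr (MulEquiv.ext fun e => ?_)
      have he : e / NU e = 1 := by
        have hmem : e / NU e ∈ EU := by
          rw [hEU, MonoidHom.mem_ker, map_div, hNUfix (NU e) fun v hv => hNUl ⟨v, hv⟩ e, div_self']
        rw [Subgroup.eq_bot_of_card_eq EU hform, Subgroup.mem_bot] at hmem
        exact hmem
      rw [div_eq_one] at he
      show u e = e
      rw [he]
      exact hNUl ⟨u, hu⟩ e
    have hne2 : Nat.card Fx ≠ 2 := by
      intro h2c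
      obtain ⟨x, y, hxy, huniv⟩ := Nat.card_eq_two_iff.mp h2c
      obtain ⟨x, hx1⟩ : ∃ x : Fx, x ≠ 1 := ⟨if x = 1 then y else x, by
        split_ifs with h
        · exact fun h' => hxy (h.trans h'.symm)
        · exact h⟩
      have huniq : ∀ z : Fx, z = 1 ∨ z = x := fun z => by
        by_contra! hz
        obtain ⟨a, b, hab, habu⟩ := Nat.card_eq_two_iff.mp h2c
        have key : ∀ w : Fx, w = a ∨ w = b := fun w => by
          have : w ∈ ({a, b} : Set Fx) := habu ▸ Set.mem_univ w
          simpa using this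
        rcases key z with rfl | rfl <;> rcases key x with rfl | rfl <;> rcases key 1 with e | e <;>
          first | exact hz.2 rfl | exact hz.1 e.symm | exact hx1 e.symm
      apply hx1
      refine Subtype.ext (Subtype.ext (hnd _ fun y => ?_))
      set x0 : E := ((x : EU) : E) with hx0
      have hxU : ∀ u ∈ U, ∀ z, c x0 (u z) = c (u⁻¹ x0) z := fun u hu z => by
        conv_lhs => rw [← MulAut.apply_inv_self _ u x0, hTinv u (hUT hu)]
      have h1 : c x0 (NU y) = 1 := by
        rw [hNU, map_prod]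
        have e : ∏ u : U, c x0 ((u : MulAut E) y) = c (∏ u : U, (u : MulAut E) x0) y := by
          rw [map_prod, MonoidHom.finsetProd_apply]
          refine Fintype.prod_equiv (Equiv.inv U) _ _ fun u => ?_
          rw [hxU u u.2]
          rfl
        rw [e, ← hNU, MonoidHom.mem_ker.mp (x : EU).2, map_one, MonoidHom.one_apply]
      set z := y / NU y with hz
      have hzEU : z ∈ EU := by
        rw [hEU, MonoidHom.mem_ker, hz, map_div, hNUfix (NU y) fun v hv => hNUl ⟨v, hv⟩ y, div_self']
      suffices h3 : c x0 z = 1 by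
        rwa [hz, map_div, h1, div_one] at h3
      have hxα : α x0 = x0 := (hFx' _).mp x.2
      have hcpow : ∀ i : ℕ, c x0 ((α ^ i) z) = c x0 z := by
        intro i
        induction i with
        | zero => rfl
        | succ i ih =>
          rw [pow_succ', MulAut.mul_apply]
          conv_lhs => rw [← hxα, hαinv]
          exact ih
      let w := ∏ i ∈ Finset.range q, (α ^ i) z
      have hw : c x0 w = c x0 z := by
        rw [map_prod, Finset.prod_congr rfl fun i _ => hcpow i, Finset.prod_const, Finset.card_range,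
          hcodd hqodd]
      have hwEU : w ∈ EU := Subgroup.prod_mem _ fun i _ =>
        hEUinv _ (Subgroup.mem_sup_right (pow_mem (Subgroup.mem_zpowers α) i)) z hzEU
      have hwfix : α w = w := by
        show α (∏ i ∈ Finset.range q, (α ^ i) z) = ∏ i ∈ Finset.range q, (α ^ i) z
        rw [map_prod]
        have e1 := Finset.prod_range_succ (fun i => (α ^ i) z) q
        rw [Finset.prod_range_succ' (fun i => (α ^ i) z) q, hαq, pow_zero] at e1
        rw [← mul_right_cancel e1]
        exact Finset.prod_congr rfl fun i _ => by rw [pow_succ', MulAut.mul_apply]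
      rw [← hw]
      rcases huniq ⟨⟨w, hwEU⟩, (hFx' _).mpr hwfix⟩ with h | h
      · rw [show w = 1 from congrArg (fun t => ((t : EU) : E)) (congrArg Subtype.val h), map_one]
      · rw [show w = x0 from congrArg (fun t => ((t : EU) : E)) (congrArg Subtype.val h), halt]
    have h4 : 4 ≤ Nat.card Fx := by
      have hfp : IsPGroup 2 Fx := fun z => ⟨1, Subtype.ext (Subtype.ext (h2 _))⟩
      obtain ⟨k, hk⟩ := IsPGroup.iff_card.mp hfp
      rcases k with _ | _ | k
      · exact absurd hk hEUne
      · exact absurd hk hne2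
      · rw [hk, pow_add, pow_add]
        have : 1 ≤ 2 ^ k := Nat.one_le_pow _ _ two_pos
        omega
    have h5 : 2 ^ (2 * (q - 1)) ≤ 2 ^ (2 * m) := by
      refine le_trans ?_ hpow
      rw [pow_mul]
      exact Nat.pow_le_pow_left h4 _
    have h6 := (Nat.pow_le_pow_iff_right (by norm_num)).mp h5
    have h7 : m < 2 ^ m := Nat.lt_two_pow_self
    omega
  -- so `α` centralises `T`
  have hcomm : ∀ τ ∈ T, α * τ = τ * α := fun τ hτ => by
    have h1 : ψ ⟨τ, hτ⟩ ∈ U := ⟨_, rfl⟩
    rw [hU1, Subgroup.mem_bot] at h1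
    have h2 : α * τ * α⁻¹ * τ⁻¹ = 1 := h1
    rwa [mul_inv_eq_one, mul_inv_eq_iff_eq_mul] at h2
  have hfree : ∀ e, α e = e → e = 1 := fun e he => hL e he fun τ hτ => by
    rw [mul_assoc τ⁻¹, hcomm τ hτ, ← mul_assoc, inv_mul_cancel, one_mul, mul_inv_cancel]
    rfl
  have hcard : Nat.card E ≤ 2 ^ (2 * m) := by
    refine le_trans (le_of_eq ?_) hbound
    exact Nat.card_congr (MonoidHom.ofInjective (f := moved α) ((injective_iff_map_eq_one _).mpr fun e he =>
      hfree e (mem_ker_moved.mp (MonoidHom.mem_ker.mpr he)))).toEquiv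
  intro e
  by_contra hev
  -- invariant subgroups
  have hirr : ∀ S : Subgroup E, (∀ x ∈ S, α x ∈ S) → S ≠ ⊥ → S = ⊤ := by
    intro S hS hne
    have key : ∀ H : Subgroup E, (∀ x ∈ H, α x ∈ H) → H ≠ ⊥ → Nat.card H = 2 ^ (2 * m) := by
      intro H hH hne
      obtain ⟨n, hn⟩ := IsPGroup.iff_card.mp (show IsPGroup 2 H from fun x => ⟨1, Subtype.ext (h2 _)⟩)
      have hn0 : n ≠ 0 := fun h => hne (Subgroup.eq_bot_of_card_eq H (by rw [hn, h, pow_zero]))
      have hnm : n ≤ 2 * m := (Nat.pow_le_pow_iff_right (by norm_num)).mp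
        (hn ▸ (Subgroup.card_le_card_group H).trans hcard)
      let αH : Equiv.Perm H :=
        Equiv.ofBijective (fun x => ⟨α x, hH x x.2⟩) (Finite.injective_iff_bijective.mp
          fun x y h => Subtype.ext (α.injective (congrArg Subtype.val h)))
      have hpow : ∀ (i : ℕ) (x : H), ((((αH ^ i) x) : H) : E) = (α ^ i) x := by
        intro i
        induction i with
        | zero => intro x; rfl
        | succ i ih =>
          intro x
          rw [pow_succ', pow_succ', Equiv.Perm.mul_apply, MulAut.mul_apply]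
          show α ((αH ^ i) x : H) = _
          rw [ih]
      let P : Subgroup (Equiv.Perm H) := Subgroup.zpowers αH
      have hP : IsPGroup q P := by
        have hd : orderOf αH ∣ q := orderOf_dvd_of_pow_eq_one (Equiv.ext fun x => Subtype.ext (by
          rw [hpow, hαq]; rfl))
        rcases (Nat.dvd_prime hq).mp hd with h | h
        · exact IsPGroup.of_card (n := 0) (by rw [Nat.card_zpowers, h, pow_zero])
        · exact IsPGroup.of_card (n := 1) (by rw [Nat.card_zpowers, h, pow_one])
      have hfp := hP.card_modEq_card_fixedPoints H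
      have hone : Nat.card (MulAction.fixedPoints P H) = 1 := by
        rw [Nat.card_eq_one_iff_unique]
        refine ⟨⟨fun a b => ?_⟩, ⟨⟨1, fun g => ?_⟩⟩⟩
        · have hz : ∀ a : MulAction.fixedPoints P H, ((a.1 : H) : E) = 1 := fun a =>
            hfree _ (congrArg Subtype.val (a.2 ⟨αH, Subgroup.mem_zpowers _⟩))
          exact Subtype.ext (Subtype.ext ((hz a).trans (hz b).symm))
        · obtain ⟨g, hg⟩ := g
          exact MulAction.mem_stabilizer_iff.mp ((Subgroup.zpowers_le.mpr
            (show αH ∈ MulAction.stabilizer (Equiv.Perm H) (1 : H) from Subtype.ext (map_one α))) hg)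
      rw [hone, hn] at hfp
      have hd : q ∣ 2 ^ n - 1 := (Nat.modEq_iff_dvd' (Nat.one_le_pow _ _ two_pos)).mp hfp.symm
      rw [hn, (exp_lt_bound hm hqm hnm hd).resolve_left hn0]
    refine Subgroup.eq_top_of_le_card S ?_
    rw [key S hS hne]
    exact hcard
  -- every element of `T` is a polynomial in `α`
  set A' := adEnd α with hA'
  let Good : AddMonoid.End (Additive E) → Prop := fun g => g * A' = A' * g ∧
    ∀ x y : E, c (g (Additive.ofMul x)).toMul y = c x ((g ^ 2 ^ m) (Additive.ofMul y)).toMul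
  have hcαi : ∀ (i : ℕ) x y, c ((α ^ i) x) y = c x ((α ^ i)⁻¹ y) := by
    intro i x y
    have hinv : ∀ j : ℕ, ∀ a b, c ((α ^ j) a) ((α ^ j) b) = c a b := by
      intro j
      induction j with
      | zero => intro a b; rfl
      | succ j ih => intro a b; rw [pow_succ', MulAut.mul_apply, MulAut.mul_apply, hαinv, ih]
    conv_lhs => rw [← MulAut.apply_inv_self _ (α ^ i) y, hinv]
  have hgoodpow : ∀ i : ℕ, Good (A' ^ i) := by
    intro i
    refine ⟨(Commute.pow_self A' i).eq, fun x y => ?_⟩
    rw [hA', ← map_pow, ← map_pow, adEnd_apply, adEnd_apply]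
    show c ((α ^ i) x) y = c x (((α ^ i) ^ 2 ^ m) y)
    rw [hcαi]
    congr 2
    rw [inv_eq_iff_mul_eq_one, ← pow_succ', ← pow_mul, ← hqm, mul_comm, pow_mul, hαq, one_pow]
  set v := e
  have hclos : ∀ x : E, x ∈ Subgroup.closure {z | ∃ i : ℕ, (α ^ i) v = z} := by
    intro x
    have h1 : Subgroup.closure {z | ∃ i : ℕ, (α ^ i) v = z} = ⊤ := by
      refine hirr _ (fun x hx => ?_) ?_
      · have hle : Subgroup.closure {z | ∃ i : ℕ, (α ^ i) v = z} ≤
            (Subgroup.closure {z | ∃ i : ℕ, (α ^ i) v = z}).comap α.toMonoidHom := by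
          rw [Subgroup.closure_le]
          rintro _ ⟨i, rfl⟩
          exact Subgroup.subset_closure ⟨i + 1, by rw [pow_succ']; rfl⟩
        exact hle hx
      · intro h
        apply hev
        have : v ∈ (⊥ : Subgroup E) := h ▸ Subgroup.subset_closure ⟨0, rfl⟩
        exact Subgroup.mem_bot.mp this
    rw [h1]; trivial
  have hexists : ∀ x : E, ∃ g, Good g ∧ g (Additive.ofMul v) = Additive.ofMul x ∧
      ∀ k, k * A' = A' * k → k * g = g * k := by
    intro x
    induction hclos x using Subgroup.closure_induction with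
    | mem z hz =>
      obtain ⟨i, rfl⟩ := hz
      exact ⟨A' ^ i, hgoodpow i, by rw [hA', ← map_pow]; rfl, fun k hk => ((show Commute k A' from hk).pow_right i).eq⟩
    | one =>
      refine ⟨0, ⟨by rw [zero_mul, mul_zero], fun x y => ?_⟩, rfl, fun k _ => by rw [zero_mul, mul_zero]⟩
      rw [zero_pow (pow_ne_zero _ two_ne_zero)]
      show c 1 y = c x 1
      rw [map_one, map_one, MonoidHom.one_apply]
    | mul a b _ _ iha ihb =>
      obtain ⟨g, ⟨hg1, hg2⟩, hga, hgk⟩ := iha
      obtain ⟨h, ⟨hh1, hh2⟩, hhb, hhk⟩ := ihb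
      have hgh : g * h = h * g := (hgk h hh1).symm
      refine ⟨g + h, ⟨by rw [add_mul, mul_add, hg1, hh1], fun x y => ?_⟩, ?_,
        fun k hk => by rw [add_mul, mul_add, hgk k hk, hhk k hk]⟩
      · rw [pow_two_pow_add h2 hgh]
        show c ((g (Additive.ofMul x)).toMul * (h (Additive.ofMul x)).toMul) y =
          c x (((g ^ 2 ^ m) (Additive.ofMul y)).toMul * ((h ^ 2 ^ m) (Additive.ofMul y)).toMul)
        rw [map_mul, map_mul, MonoidHom.mul_apply, hg2, hh2]
      · show g (Additive.ofMul v) + h (Additive.ofMul v) = Additive.ofMul (a * b)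
        rw [hga, hhb]; rfl
    | inv a _ iha =>
      obtain ⟨g, hg, hga, hg'⟩ := iha
      refine ⟨g, hg, ?_, hg'⟩
      rw [hga, inv_eq_of_mul_eq_one_left (by rw [← sq, h2] : a * a = 1)]
  apply hev
  refine hfixT _ fun τ hτ => ?_
  obtain ⟨g, ⟨hg1, hg2⟩, hgv, -⟩ := hexists (τ v)
  -- `τ` coincides with `g`
  have hτg : ∀ x : E, g (Additive.ofMul x) = Additive.ofMul (τ x) := by
    intro x
    induction hclos x using Subgroup.closure_induction with
    | mem z hz =>
      obtain ⟨i, rfl⟩ := hz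
      have h1 : g * A' ^ i = A' ^ i * g := ((show Commute g A' from hg1).pow_right i).eq
      have h3 : τ ((α ^ i) v) = (α ^ i) (τ v) := by
        rw [← MulAut.mul_apply, ← MulAut.mul_apply, ((show Commute α τ from hcomm τ hτ).pow_left i).eq]
      rw [hA', ← map_pow] at h1
      have h4 := DFunLike.congr_fun h1 (Additive.ofMul v)
      show g (adEnd (α ^ i) (Additive.ofMul v)) = _
      refine h4.trans ?_
      show adEnd (α ^ i) (g (Additive.ofMul v)) = _
      rw [hgv, adEnd_apply, h3]
    | one => rw [map_one τ, ofMul_one, map_zero g]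
    | mul a b _ _ iha ihb => rw [ofMul_mul, map_add g, iha, ihb, ← ofMul_mul, map_mul τ]
    | inv a _ iha => rw [ofMul_inv, map_neg g, iha, ← ofMul_inv, map_inv τ]
  have hgτ : g = adEnd τ := AddMonoidHom.ext fun z => hτg z.toMul
  have hfix : ∀ x y : E, c x ((τ ^ 2 ^ m * τ) y) = c x y := by
    intro x y
    have h1 := hg2 x (τ y)
    rw [hgτ, ← map_pow, adEnd_apply, adEnd_apply] at h1
    rw [MulAut.mul_apply]
    exact h1.symm.trans (hTinv τ hτ x y)
  have hτq : τ ^ q = 1 := by
    refine MulEquiv.ext fun y => ?_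
    rw [hqm, pow_succ, MulAut.one_apply, ← div_eq_one]
    refine hnd _ fun z => ?_
    have halt' : ∀ a b, c a b = c b a := fun a b => by
      have h := halt (a * b)
      rw [map_mul, map_mul, MonoidHom.mul_apply, MonoidHom.mul_apply, halt, halt, one_mul, mul_one] at h
      rw [mul_eq_one_iff_eq_inv] at h
      have h' := hsq a b
      rw [sq, mul_eq_one_iff_eq_inv] at h'
      rw [h]; exact h'
    rw [halt', map_div, hfix, div_self']
  have hd : orderOf τ ∣ Nat.card T := Subgroup.orderOf_dvd_natCard T hτ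
  rcases (Nat.dvd_prime hq).mp (orderOf_dvd_of_pow_eq_one hτq) with h | h
  · rw [orderOf_eq_one_iff.mp h]; rfl
  · exact absurd (h ▸ hd) hTq

end Cfsg.Agent.PQFit
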