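import Cfsg.Agent.Lib.PQFit.Radical
import Cfsg.Agent.Lib.PQFit.Symplectic
import Cfsg.Agent.Lib.HallHigman.FixedPoint
import Cfsg.Agent.Lib.HallHigman.PrimeOrder

/-!
The two-group case of the centralising theorem (owner: helper77).

* `Pair.false_of_two`
-/

set_option autoImplicit false

namespace Cfsg.Agent.PQFit

open scoped commutatorElement

namespace Pair

variable {Γ : Type*} [Group Γ] [Finite Γ] {A K R T : Subgroup Γ} {p q t : ℕ} {f : Γ}
  (S : Setup A K p q f) (P : Pair A K R T 2 t)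
  {F : Type*} [Field F] [IsAlgClosed F] {U : Type*} [AddCommGroup U] [Module F U] [FiniteDimensional F U]

include S P

set_option maxHeartbeats 1000000 in
theorem false_of_two {G0 : Subgroup Γ} (hRG : R ≤ G0) (hTG : T ≤ G0) (ψ : G0 →* Module.End F U)
    {a : Γ} (haA : a ∈ A) (haG : a ∈ G0) (hao : (orderOf a).Prime) (haoF : (orderOf a : F) ≠ 0)
    (haq : a = f ∨ orderOf a = q) (hrF : ((2 : ℕ) : F) ≠ 0) (h2K : 2 ∣ Nat.card K) (hRT : ⁅R, T⁆ = R)
    (hT' : ⁅T, T⁆ ≤ Subgroup.centralizer (R : Set Γ)) (hafree : ∀ u, ψ ⟨a, haG⟩ u = u → u = 0)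
    (hscal : ∀ x ∈ frat R, ∀ hx : x ∈ G0, ∃ c : F, ψ ⟨x, hx⟩ = c • 1)
    (hclaim : (∀ x (hx : x ∈ R), ψ ⁅(⟨a, haG⟩ : G0), ⟨x, hRG hx⟩⁆ = 1) → False) : False := by
  classical
  have hF := S.frob
  haveI := Fact.mk Nat.prime_two
  haveI := Fact.mk hF.hq
  haveI := Fact.mk hao
  haveI := Fact.mk P.ht
  have haR : a ∈ Subgroup.normalizer (R : Set Γ) := P.hAR haA
  have hord : (⟨a, haG⟩ : G0) ^ orderOf a = 1 := Subtype.ext (by simp [pow_orderOf_eq_one])
  have hAodd : ¬ 2 ∣ Nat.card A := fun h => absurd (Nat.eq_one_of_dvd_coprimes S.cop h h2K) (by norm_num)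
  -- pass to the faithful image
  set Gb := ψ.toHomUnits.range with hGb
  let φ : G0 →* Gb := ψ.toHomUnits.rangeRestrict
  let σ : Gb →* Module.End F U := (Units.coeHom _).comp Gb.subtype
  have hσ : Function.Injective σ := fun x y h => Subtype.ext (Units.ext h)
  have hσφ : ∀ g, σ (φ g) = ψ g := fun g => rfl
  haveI : Finite Gb := Finite.of_surjective φ ψ.toHomUnits.rangeRestrict_surjective
  have hcentral : ∀ y ∈ frat R, ∀ hy : y ∈ G0, φ ⟨y, hy⟩ ∈ Subgroup.center Gb := by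
    intro y hy hyG
    obtain ⟨c, hs⟩ := hscal y hy hyG
    refine Subgroup.mem_center_iff.mpr fun g => hσ ?_
    rw [map_mul, map_mul, hσφ, hs, mul_smul_comm, smul_mul_assoc, mul_one, one_mul]
  set Rb := (R.subgroupOf G0).map φ with hRb
  set ab := φ ⟨a, haG⟩ with hab
  have hRbmem : ∀ x ∈ Rb, ∃ y, ∃ hy : y ∈ R, φ ⟨y, hRG hy⟩ = x := by
    rintro _ ⟨⟨y, hy⟩, hy', rfl⟩
    exact ⟨y, hy', rfl⟩
  have hcomR : ∀ x ∈ Rb, ∀ y ∈ Rb, ⁅x, y⁆ ∈ Subgroup.center Gb := by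
    intro x hx y hy
    obtain ⟨x, hx', rfl⟩ := hRbmem x hx
    obtain ⟨y, hy', rfl⟩ := hRbmem y hy
    rw [← map_commutatorElement]
    have h1 : ⁅x, y⁆ ∈ frat R := by
      haveI : Group.IsNilpotent R := P.hR.isNilpotent
      exact ⟨⁅(⟨x, hx'⟩ : R), ⟨y, hy'⟩⁆, Cores.commutator_le_frattini
        (Subgroup.commutator_mem_commutator (Subgroup.mem_top _) (Subgroup.mem_top _)), rfl⟩
    exact hcentral _ h1 _
  have habn : ab ∈ Subgroup.normalizer (Rb : Set Gb) := by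
    refine Coprime.mem_normalizer_of_forall fun x hx => ?_
    obtain ⟨y, hy, rfl⟩ := hRbmem x hx
    rw [hab, ← map_inv, ← map_mul, ← map_mul]
    exact ⟨_, (Subgroup.mem_normalizer_iff.mp haR y).mp hy, rfl⟩
  have habz : Subgroup.zpowers ab ≤ Subgroup.normalizer (Rb : Set Gb) := Subgroup.zpowers_le.mpr habn
  set Qb := ⁅Rb, Subgroup.zpowers ab⁆ with hQb
  have hQR : Qb ≤ Rb := Coprime.commutator_le_left' habz
  have hRbp : IsPGroup 2 Rb := P.hR.comap_subtype.map φ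
  have haboo : ab ^ orderOf a = 1 := by rw [hab, ← map_pow, hord, map_one]
  have hne2 : orderOf a ≠ 2 := fun h => hAodd (h ▸ Subgroup.orderOf_dvd_natCard A haA)
  have hcop' : (Nat.card (Subgroup.zpowers ab)).Coprime (Nat.card Rb) := by
    obtain ⟨k, hk⟩ := IsPGroup.iff_card.mp hRbp
    rw [Nat.card_zpowers, hk]
    exact (((Nat.coprime_primes hao Nat.prime_two).mpr hne2).coprime_dvd_left (orderOf_dvd_of_pow_eq_one haboo)).pow_right k
  by_cases hQne : Qb = ⊥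
  · refine hclaim fun x hx => ?_
    have h1 : ⁅φ ⟨x, hRG hx⟩, ab⁆ ∈ Qb :=
      Subgroup.commutator_mem_commutator ⟨_, hx, rfl⟩ (Subgroup.mem_zpowers _)
    rw [hQne, Subgroup.mem_bot, hab, ← map_commutatorElement] at h1
    have h3 : ψ ⁅(⟨a, haG⟩ : G0), ⟨x, hRG hx⟩⁆ = 1 := by
      rw [← hσφ, ← commutatorElement_inv, map_inv, h1, inv_one, map_one]
    exact h3
  have hQQcent : ⁅Qb, Qb⁆ ≤ Subgroup.centralizer ({ab} : Set Gb) := by
    rw [Subgroup.commutator_le]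
    intro x hx y hy
    exact Subgroup.mem_centralizer_singleton_iff.mpr
      (Subgroup.mem_center_iff.mp (hcomR x (hQR hx) y (hQR hy)) ab).symm
  have hsol : Group.IsSolvable (Subgroup.zpowers ab) := by
    letI := IsCyclic.commGroup (α := Subgroup.zpowers ab)
    infer_instance
  have hQA : ⁅Qb, Subgroup.zpowers ab⁆ = Qb := Coprime.commutator_commutator_eq habz hcop' (Or.inl hsol)
  have hAQ : Subgroup.zpowers ab ≤ Subgroup.normalizer (Qb : Set Gb) := Subgroup.normalizer_commutator_ge_right _ _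
  obtain ⟨c1, c2, c3⟩ := HallHigman.critical_hyps hAQ hQA hQQcent
  have hQρ : ∃ g ∈ Qb, σ g ≠ 1 := by
    by_contra! h
    exact hQne ((Subgroup.eq_bot_iff_forall Qb).mpr fun g hg => hσ ((h g hg).trans (map_one σ).symm))
  rcases HallHigman.fixed_or_exceptional σ Qb ab (hAQ (Subgroup.mem_zpowers ab)) hao haoF haboo Nat.prime_two hrF
      hne2.symm (hRbp.to_le hQR) c1 c2 c3 hQρ with ⟨v, hv0, hv⟩ | ⟨-, m, hm, hqm, ⟨x0, hx0, y0, hy0, hxy0⟩, W', hW', K₀, hK₀Q, hK₀idx, -, hK₀⟩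
  · exact hv0 (hafree v hv)
  -- the exceptional case
  have haq' : orderOf a = q := by
    rcases haq with rfl | h
    · exfalso
      have h1 := hF.dvd
      rw [← hF.orderf, hqm, Nat.add_sub_cancel] at h1
      have h2 := hF.hq.dvd_of_dvd_pow h1
      rw [(Nat.prime_dvd_prime_iff_eq hF.hq Nat.prime_two).mp h2] at hF
      exact hAodd (hF.card ▸ dvd_mul_left 2 p)
    · exact h
  obtain ⟨w1, hw1, hw1'⟩ : ∃ w ∈ W', w ≠ 0 := by
    obtain ⟨x, -, y, -, w, hw, hne⟩ := hW'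
    exact ⟨w, hw, fun h => hne (by rw [h, map_zero])⟩
  have hK₀c : ∀ k ∈ K₀, ∀ g ∈ Rb, k * g = g * k := by
    intro k hk
    have hkQ : ∀ g ∈ Qb, k * g = g * k := by
      intro g hg
      rw [← commutatorElement_eq_one_iff_mul_comm]
      refine hσ ?_
      obtain ⟨y, hy, hye⟩ := hRbmem ⁅k, g⁆ (mul_mem (mul_mem (mul_mem (hQR (hK₀Q hk)) (hQR hg))
        (inv_mem (hQR (hK₀Q hk)))) (inv_mem (hQR hg)))
      obtain ⟨k', hk', hke⟩ := hRbmem k (hQR (hK₀Q hk))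
      obtain ⟨g', hg', hge⟩ := hRbmem g (hQR hg)
      have h1 : ⁅k', g'⁆ ∈ frat R := by
        haveI : Group.IsNilpotent R := P.hR.isNilpotent
        exact ⟨⁅(⟨k', hk'⟩ : R), ⟨g', hg'⟩⁆, Cores.commutator_le_frattini
          (Subgroup.commutator_mem_commutator (Subgroup.mem_top _) (Subgroup.mem_top _)), rfl⟩
      obtain ⟨c, hc⟩ := hscal _ h1 (hRG (frat_le R h1))
      have h2 : σ ⁅k, g⁆ = c • 1 := by
        rw [← hke, ← hge, ← map_commutatorElement, hσφ]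
        exact hc
      have h3 := hK₀ k hk g hg w1 hw1
      rw [h2, LinearMap.smul_apply, Module.End.one_apply] at h3
      have h4 : (c - 1) • w1 = 0 := by rw [sub_smul, one_smul, h3, sub_self]
      rw [h2, sub_eq_zero.mp ((smul_eq_zero.mp h4).resolve_right hw1'), one_smul, map_one]
    intro g hg
    have hsup := Coprime.commutator_sup_centralizer habz hcop' (Or.inl hsol)
    have hle : Rb ≤ Subgroup.centralizer ({k} : Set Gb) := by
      conv_lhs => rw [← hsup]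
      refine sup_le (fun g hg => Subgroup.mem_centralizer_singleton_iff.mpr (hkQ g hg).symm) ?_
      intro c hc
      have hcQ : ∀ g ∈ Qb, c * g = g * c := by
        have : Qb ≤ Subgroup.centralizer ({c} : Set Gb) := by
          rw [hQb, Subgroup.commutator_le]
          intro x hx s hs
          refine Subgroup.mem_centralizer_singleton_iff.mpr ?_
          have hcs : s * c = c * s := Subgroup.mem_centralizer_iff.mp hc.2 s hs
          have hz := hcomR c hc.1 x hx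
          have h1 : s * ⁅c, x⁆ * s⁻¹ = ⁅c, x⁆ := by
            rw [Subgroup.mem_center_iff.mp hz s, mul_inv_cancel_right]
          rw [conjugate_commutatorElement, show s * c * s⁻¹ = c by rw [hcs, mul_inv_cancel_right]] at h1
          have h2 : ⁅c, x * (s * x * s⁻¹)⁻¹⁆ = 1 := by
            rw [show ⁅c, x * (s * x * s⁻¹)⁻¹⁆ = ⁅c, x⁆ * (x * (s * x * s⁻¹)⁻¹ * ⁅c, s * x * s⁻¹⁆⁻¹ * (x * (s * x * s⁻¹)⁻¹)⁻¹) by
              simp only [commutatorElement_def]; group]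
            rw [h1, Subgroup.mem_center_iff.mp (inv_mem hz) (x * (s * x * s⁻¹)⁻¹), mul_inv_cancel_right,
              mul_inv_cancel]
          have h3 := commutatorElement_eq_one_iff_mul_comm.mp h2
          rw [show ⁅x, s⁆ = x * (s * x * s⁻¹)⁻¹ by rw [commutatorElement_def]; group]
          exact h3.symm
        exact fun g hg => (Subgroup.mem_centralizer_singleton_iff.mp (this hg)).symm
      exact Subgroup.mem_centralizer_singleton_iff.mpr (hcQ k (hK₀Q hk))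
    exact (Subgroup.mem_centralizer_singleton_iff.mp (hle hg)).symm
  -- the symplectic space
  haveI : Group.IsNilpotent Rb := hRbp.isNilpotent
  let Zc := Subgroup.center Rb
  haveI : Zc.Normal := inferInstance
  letI : CommGroup (Rb ⧸ Zc) :=
    { (inferInstance : Group (Rb ⧸ Zc)) with
      mul_comm := fun x y => by
        obtain ⟨x, rfl⟩ := QuotientGroup.mk'_surjective _ x
        obtain ⟨y, rfl⟩ := QuotientGroup.mk'_surjective _ y
        rw [← map_mul, ← map_mul, QuotientGroup.mk'_eq_mk']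
        refine ⟨⁅y⁻¹, x⁻¹⁆, Subgroup.mem_center_iff.mpr fun z => Subtype.ext ?_, by rw [commutatorElement_def]; group⟩
        exact (Subgroup.mem_center_iff.mp (hcomR _ (inv_mem y.2) _ (inv_mem x.2)) (z : Gb)) }
  have hE2 : ∀ e : Rb ⧸ Zc, e ^ 2 = 1 := by
    intro e
    obtain ⟨x, rfl⟩ := QuotientGroup.mk'_surjective _ e
    rw [← map_pow, QuotientGroup.mk'_apply, QuotientGroup.eq_one_iff]
    refine Subgroup.mem_center_iff.mpr fun z => Subtype.ext ?_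
    obtain ⟨y, hy, hye⟩ := hRbmem _ x.2
    have h1 : y ^ 2 ∈ frat R := ⟨(⟨y, hy⟩ : R) ^ 2, Cores.pow_mem_frattini P.hR _, rfl⟩
    have h2 : ((x ^ 2 : Rb) : Gb) ∈ Subgroup.center Gb := by
      rw [SubmonoidClass.coe_pow, ← hye, ← map_pow]
      exact hcentral _ h1 _
    exact Subgroup.mem_center_iff.mp h2 (z : Gb)
  letI : CommGroup (Subgroup.center Gb) :=
    { (inferInstance : Group (Subgroup.center Gb)) with
      mul_comm := fun x y => Subtype.ext (Subgroup.mem_center_iff.mp y.2 x) }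
  let cv : Rb → Rb → Subgroup.center Gb := fun x y => ⟨⁅(x : Gb), (y : Gb)⁆, hcomR _ x.2 _ y.2⟩
  let cR : Rb →* Rb →* Subgroup.center Gb :=
    MonoidHom.mk' (fun x => MonoidHom.mk' (cv x) fun y z => Subtype.ext (by
      show ⁅(x : Gb), (y : Gb) * z⁆ = ⁅(x : Gb), (y : Gb)⁆ * ⁅(x : Gb), (z : Gb)⁆
      rw [show ⁅(x : Gb), (y : Gb) * z⁆ = ⁅(x : Gb), (y : Gb)⁆ * ((y : Gb) * ⁅(x : Gb), (z : Gb)⁆ * (y : Gb)⁻¹) by
        simp only [commutatorElement_def]; group]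
      rw [Subgroup.mem_center_iff.mp (hcomR _ x.2 _ z.2) (y : Gb), mul_inv_cancel_right]))
      fun x x' => MonoidHom.ext fun y => Subtype.ext (by
        show ⁅(x : Gb) * x', (y : Gb)⁆ = ⁅(x : Gb), (y : Gb)⁆ * ⁅(x' : Gb), (y : Gb)⁆
        rw [show ⁅(x : Gb) * x', (y : Gb)⁆ = ((x : Gb) * ⁅(x' : Gb), (y : Gb)⁆ * (x : Gb)⁻¹) * ⁅(x : Gb), (y : Gb)⁆ by
          simp only [commutatorElement_def]; group]
        rw [Subgroup.mem_center_iff.mp (hcomR _ x'.2 _ y.2) (x : Gb), mul_inv_cancel_right,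
          Subgroup.mem_center_iff.mp (hcomR _ x.2 _ y.2) ⁅(x' : Gb), (y : Gb)⁆])
  have hcZ : ∀ z ∈ Zc, ∀ x, cR z x = 1 ∧ cR x z = 1 := fun z hz x => by
    have h := congrArg Subtype.val (Subgroup.mem_center_iff.mp hz x)
    exact ⟨Subtype.ext (commutatorElement_eq_one_iff_mul_comm.mpr h.symm),
      Subtype.ext (commutatorElement_eq_one_iff_mul_comm.mpr h)⟩
  let c1' : Rb →* (Rb ⧸ Zc →* Subgroup.center Gb) :=
    MonoidHom.mk' (fun x => QuotientGroup.lift Zc (cR x) fun z hz => (hcZ z hz x).2) fun x x' =>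
      MonoidHom.ext fun q => by
        obtain ⟨y, rfl⟩ := QuotientGroup.mk'_surjective _ q
        show cR (x * x') y = cR x y * cR x' y
        rw [map_mul, MonoidHom.mul_apply]
  let c : (Rb ⧸ Zc) →* (Rb ⧸ Zc) →* Subgroup.center Gb :=
    QuotientGroup.lift Zc c1' fun z hz => MonoidHom.ext fun q => by
      obtain ⟨y, rfl⟩ := QuotientGroup.mk'_surjective _ q
      exact (hcZ z hz y).1
  have hc : ∀ x y : Rb, c x y = cv x y := fun x y => rfl
  -- the operators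
  set Tb := (T.subgroupOf G0).map φ with hTb
  set Db := Tb ⊔ Subgroup.zpowers ab with hDbdef
  have hTbn : Tb ≤ Subgroup.normalizer (Rb : Set Gb) := by
    rintro _ ⟨y, hy, rfl⟩
    refine Coprime.mem_normalizer_of_forall fun x hx => ?_
    obtain ⟨z, hz, rfl⟩ := hRbmem x hx
    rw [← map_inv, ← map_mul, ← map_mul]
    exact ⟨_, (Subgroup.mem_normalizer_iff.mp (P.hTR hy) z).mp hz, rfl⟩
  have hDb : Db ≤ Subgroup.normalizer (Rb : Set Gb) := sup_le hTbn habz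
  have hZinv : ∀ g, ∀ z ∈ Zc, Coprime.conjAut hDb g z ∈ Zc := fun g z hz =>
    (Subgroup.characteristic_iff_map_le.mp inferInstance (Coprime.conjAut hDb g)) ⟨z, hz, rfl⟩
  let actE : Db →* MulAut (Rb ⧸ Zc) := FixedFormula.quotAct (Coprime.conjAut hDb) Zc hZinv
  have hactE : ∀ (g : Db) (x : Rb), actE g (x : Rb ⧸ Zc) = ((Coprime.conjAut hDb g x : Rb) : Rb ⧸ Zc) :=
    fun g x => rfl
  let TE : Subgroup (MulAut (Rb ⧸ Zc)) := (Tb.subgroupOf Db).map actE
  let α : MulAut (Rb ⧸ Zc) := actE ⟨ab, Subgroup.mem_sup_right (Subgroup.mem_zpowers ab)⟩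
  have hcinv : ∀ (g : Db) (x y : Rb ⧸ Zc), c (actE g x) (actE g y) = c x y := by
    intro g x y
    obtain ⟨x, rfl⟩ := QuotientGroup.mk_surjective x
    obtain ⟨y, rfl⟩ := QuotientGroup.mk_surjective y
    rw [hactE, hactE, hc, hc]
    refine Subtype.ext ?_
    show ⁅((Coprime.conjAut hDb g x : Rb) : Gb), ((Coprime.conjAut hDb g y : Rb) : Gb)⁆ = ⁅(x : Gb), (y : Gb)⁆
    rw [Coprime.coe_conjAut, Coprime.coe_conjAut, ← conjugate_commutatorElement,
      Subgroup.mem_center_iff.mp (hcomR _ x.2 _ y.2) (g : Gb), mul_inv_cancel_right]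
  have hTEab : ∀ σ ∈ TE, ∀ τ ∈ TE, σ * τ = τ * σ := by
    rintro _ ⟨⟨_, _⟩, ⟨u, hu, rfl⟩, rfl⟩ _ ⟨⟨_, _⟩, ⟨v, hv, rfl⟩, rfl⟩
    rw [← map_mul, ← map_mul]
    refine MulEquiv.ext fun q => ?_
    obtain ⟨x, rfl⟩ := QuotientGroup.mk_surjective q
    rw [hactE, hactE]
    refine congrArg _ (Subtype.ext ?_)
    rw [Coprime.coe_conjAut, Coprime.coe_conjAut]
    obtain ⟨z, hz, hze⟩ := hRbmem _ x.2
    show φ u * φ v * (x : Gb) * (φ u * φ v)⁻¹ = φ v * φ u * (x : Gb) * (φ v * φ u)⁻¹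
    simp only [← hze, ← map_mul, ← map_inv]
    refine congrArg φ (Subtype.ext ?_)
    have hh := Subgroup.mem_centralizer_iff.mp
      (hT' (Subgroup.commutator_mem_commutator (inv_mem (hv : (v : Γ) ∈ T)) (inv_mem (hu : (u : Γ) ∈ T)))) z hz
    show (u : Γ) * v * z * ((u : Γ) * v)⁻¹ = (v : Γ) * u * z * ((v : Γ) * u)⁻¹
    rw [commutatorElement_def, inv_inv, inv_inv] at hh
    simp only [Subgroup.coe_subtype] at hh
    calc (u : Γ) * v * z * ((u : Γ) * v)⁻¹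
        = (u : Γ) * v * (z * ((v : Γ)⁻¹ * (u : Γ)⁻¹ * v * u)) * ((v : Γ) * u)⁻¹ := by group
      _ = (u : Γ) * v * ((v : Γ)⁻¹ * (u : Γ)⁻¹ * v * u * z) * ((v : Γ) * u)⁻¹ := by rw [hh]
      _ = (v : Γ) * u * z * ((v : Γ) * u)⁻¹ := by group
  have hTEcard : Nat.card TE ∣ Nat.card T :=
    (Subgroup.card_map_dvd _ _).trans (by
      rw [Nat.card_congr (Subgroup.subgroupOfEquivOfLe le_sup_left).toEquiv]
      refine (Subgroup.card_map_dvd _ _).trans ?_
      rw [Nat.card_congr (Subgroup.subgroupOfEquivOfLe hTG).toEquiv])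
  have hTEodd : Odd (Nat.card TE) := by
    rw [← Nat.not_even_iff_odd, even_iff_two_dvd]
    intro h
    obtain ⟨k, hk⟩ := IsPGroup.iff_card.mp P.hT
    have h1 := h.trans hTEcard
    rw [hk] at h1
    exact P.hrt ((Nat.prime_dvd_prime_iff_eq Nat.prime_two P.ht).mp (Nat.prime_two.dvd_of_dvd_pow h1))
  have hTEq : ¬ q ∣ Nat.card TE := fun h => hF.hq.one_lt.ne' (Nat.eq_one_of_dvd_coprimes S.cop
    (hF.card ▸ dvd_mul_left q p) ((h.trans hTEcard).trans (Subgroup.card_dvd_of_le P.hTK)))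
  have hαq : α ^ q = 1 := by
    rw [← map_pow, ← map_one actE]
    refine congrArg actE (Subtype.ext ?_)
    rw [SubmonoidClass.coe_pow, ← haq', haboo]; rfl
  have hαT : ∀ τ ∈ TE, α * τ * α⁻¹ ∈ TE := by
    rintro _ ⟨⟨u, hu'⟩, hu, rfl⟩
    refine ⟨⟨ab, Subgroup.mem_sup_right (Subgroup.mem_zpowers ab)⟩ * ⟨u, hu'⟩ *
      ⟨ab, Subgroup.mem_sup_right (Subgroup.mem_zpowers ab)⟩⁻¹, ?_, by rw [map_mul, map_mul, map_inv]⟩
    obtain ⟨v, hv, rfl⟩ := hu
    refine ⟨⟨a, haG⟩ * v * ⟨a, haG⟩⁻¹, (Subgroup.mem_normalizer_iff.mp (P.hAT haA) _).mp hv, ?_⟩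
    rw [map_mul, map_mul, map_inv]
    rfl
  -- fixed points of `T` on the space are trivial
  have hfixT : ∀ e : Rb ⧸ Zc, (∀ τ ∈ TE, τ e = e) → e = 1 := by
    letI := Fintype.ofFinite TE
    let N : (Rb ⧸ Zc) →* (Rb ⧸ Zc) := ∏ τ : TE, (τ : MulAut (Rb ⧸ Zc)).toMonoidHom
    have hN : ∀ e, N e = ∏ τ : TE, (τ : MulAut (Rb ⧸ Zc)) e := fun e => by
      simp only [N, MonoidHom.finsetProd_apply]; rfl
    have hNτ : ∀ τ ∈ TE, ∀ e, N (τ e) = N e := fun τ hτ e => by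
      rw [hN, hN]
      exact Fintype.prod_equiv (Equiv.mulRight ⟨τ, hτ⟩) _ _ fun x => rfl
    let ε : R →* Rb := (φ.subgroupMap (R.subgroupOf G0)).comp (Subgroup.subgroupOfEquivOfLe hRG).symm.toMonoidHom
    have hε : ∀ x : R, ((ε x : Rb) : Gb) = φ ⟨x, hRG x.2⟩ := fun x => rfl
    have hNR : ∀ x : R, N (ε x : Rb ⧸ Zc) = 1 := by
      let M : Subgroup R := (N.comp ((QuotientGroup.mk' Zc).comp ε)).ker
      have hM : R ≤ M.map R.subtype := by
        conv_lhs => rw [← hRT]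
        rw [Subgroup.commutator_le]
        intro x hx y hy
        have hy' : y * x⁻¹ * y⁻¹ ∈ R := (Subgroup.mem_normalizer_iff.mp (P.hTR hy) _).mp (inv_mem hx)
        refine ⟨⟨x, hx⟩ * ⟨y * x⁻¹ * y⁻¹, hy'⟩, ?_, ?_⟩
        · show N ((ε (⟨x, hx⟩ * ⟨y * x⁻¹ * y⁻¹, hy'⟩) : Rb) : Rb ⧸ Zc) = 1
          rw [map_mul, QuotientGroup.mk_mul, map_mul]
          have hty : φ ⟨y, hTG hy⟩ ∈ Db := Subgroup.mem_sup_left ⟨_, hy, rfl⟩
          have he : ((ε ⟨y * x⁻¹ * y⁻¹, hy'⟩ : Rb) : Rb ⧸ Zc) = actE ⟨_, hty⟩ ((ε ⟨x, hx⟩ : Rb) : Rb ⧸ Zc)⁻¹ := by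
            rw [← QuotientGroup.mk_inv, hactE, ← map_inv ε]
            refine congrArg _ (Subtype.ext ?_)
            rw [hε, Coprime.coe_conjAut, hε]
            show φ _ = φ _ * φ _ * (φ _)⁻¹
            rw [← map_inv, ← map_mul, ← map_mul]
            rfl
          rw [he, hNτ _ ⟨⟨_, hty⟩, ⟨_, hy, rfl⟩, rfl⟩, map_inv, mul_inv_cancel]
        · show x * (y * x⁻¹ * y⁻¹) = ⁅x, y⁆
          rw [commutatorElement_def]; group
      intro x
      obtain ⟨x', hx', he⟩ := hM x.2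
      rw [← Subtype.ext he]
      exact hx'
    intro e he
    obtain ⟨x, rfl⟩ := QuotientGroup.mk_surjective e
    have h1 : N ((x : Rb) : Rb ⧸ Zc) = (x : Rb ⧸ Zc) := by
      rw [hN, Finset.prod_congr rfl fun (τ : TE) _ => he _ τ.2, Finset.prod_const, Finset.card_univ,
        ← Nat.card_eq_fintype_card]
      obtain ⟨k, hk⟩ := hTEodd
      rw [hk, pow_succ, pow_mul, hE2, one_pow, one_mul]
    rw [← h1]
    obtain ⟨y, hy, hye⟩ := hRbmem _ x.2
    rw [show x = ε ⟨y, hy⟩ from Subtype.ext (by rw [hε]; exact hye.symm)]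
    exact hNR _
  have hbound : Nat.card (moved α).range ≤ 2 ^ (2 * m) := by
    let g : Qb →* (Rb ⧸ Zc) := (QuotientGroup.mk' Zc).comp (Subgroup.inclusion hQR)
    have hle : (moved α).range ≤ g.range := by
      rintro _ ⟨e, rfl⟩
      obtain ⟨x, rfl⟩ := QuotientGroup.mk_surjective e
      have hmem : ⁅ab, (x : Gb)⁆ ∈ Qb := by
        rw [hQb, Subgroup.commutator_comm]
        exact Subgroup.commutator_mem_commutator (Subgroup.mem_zpowers ab) x.2
      refine ⟨⟨_, hmem⟩, ?_⟩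
      rw [moved_apply, hactE, div_eq_mul_inv, ← QuotientGroup.mk_inv, ← QuotientGroup.mk_mul]
      rfl
    refine (Subgroup.card_le_of_le hle).trans ?_
    rw [← Subgroup.index_ker, two_mul, pow_add, ← hK₀idx]
    refine Nat.le_of_dvd (Nat.pos_of_ne_zero fun h => ?_) (Subgroup.index_dvd_of_le ?_)
    · rw [hK₀idx] at h
      simp at h
    intro k hk
    show ((Subgroup.inclusion hQR k : Rb) : Rb ⧸ Zc) = 1
    rw [QuotientGroup.eq_one_iff]
    exact Subgroup.mem_center_iff.mpr fun z => Subtype.ext (hK₀c _ hk _ z.2).symm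
  have hL : ∀ e, α e = e → (∀ τ ∈ TE, (τ⁻¹ * α * τ * α⁻¹) e = e) → e = 1 := by
    intro e hαe hτe
    refine hfixT e ?_
    obtain ⟨xb, rfl⟩ := QuotientGroup.mk_surjective e
    obtain ⟨x, hx, hxe⟩ := hRbmem _ xb.2
    set aD : Db := ⟨ab, Subgroup.mem_sup_right (Subgroup.mem_zpowers ab)⟩ with haD
    let Fix : Subgroup Db := (MulAction.stabilizer (MulAut (Rb ⧸ Zc)) (xb : Rb ⧸ Zc)).comap actE
    have hfix' : ∀ {γ : MulAut (Rb ⧸ Zc)}, γ (xb : Rb ⧸ Zc) = (xb : Rb ⧸ Zc) → ∀ j : ℤ,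
        (γ ^ j) (xb : Rb ⧸ Zc) = (xb : Rb ⧸ Zc) := fun {γ} hγ j =>
      MulAction.mem_stabilizer_iff.mp (Subgroup.zpow_mem (MulAction.stabilizer (MulAut (Rb ⧸ Zc)) (xb : Rb ⧸ Zc))
        (MulAction.mem_stabilizer_iff.mpr hγ) j)
    let Stab : Subgroup Γ := ((Fix.map Db.subtype).comap φ).map G0.subtype
    have haStab : a ∈ Stab := ⟨⟨a, haG⟩, ⟨aD, hαe, rfl⟩, rfl⟩
    have hStab : ⁅T, Subgroup.zpowers a⁆ ⊔ Subgroup.zpowers a ≤ Stab := by
      refine sup_le ?_ (Subgroup.zpowers_le.mpr haStab)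
      rw [Subgroup.commutator_le]
      intro u hu s hs
      obtain ⟨i, rfl⟩ := Subgroup.mem_zpowers_iff.mp hs
      have huD : φ ⟨u, hTG hu⟩ ∈ Db := Subgroup.mem_sup_left ⟨_, hu, rfl⟩
      refine ⟨⁅(⟨u, hTG hu⟩ : G0), ⟨a, haG⟩ ^ i⁆, ⟨⁅(⟨_, huD⟩ : Db), aD ^ i⁆, ?_, ?_⟩, rfl⟩
      · show actE ⁅(⟨_, huD⟩ : Db), aD ^ i⁆ (xb : Rb ⧸ Zc) = (xb : Rb ⧸ Zc)
        set τ := actE ⟨_, huD⟩ with hτ
        have hτmem : τ⁻¹ ∈ TE := inv_mem ⟨⟨_, huD⟩, ⟨_, hu, rfl⟩, rfl⟩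
        have hconjfix : (τ * α * τ⁻¹) (xb : Rb ⧸ Zc) = (xb : Rb ⧸ Zc) := by
          have h1 := hτe τ⁻¹ hτmem
          rw [inv_inv, MulAut.mul_apply] at h1
          rwa [show α⁻¹ (xb : Rb ⧸ Zc) = (xb : Rb ⧸ Zc) by
            conv_lhs => rw [← hαe]
            rw [MulAut.inv_apply_self]] at h1
        rw [map_commutatorElement, map_zpow, commutatorElement_def, ← hτ, ← conj_zpow, MulAut.mul_apply,
          ← zpow_neg, hfix' hαe, hfix' hconjfix]
      · rw [map_commutatorElement, map_zpow, map_commutatorElement φ, map_zpow φ]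
        rfl
    have hxfix : ∀ g ∈ ⁅T, Subgroup.zpowers a⁆ ⊔ Subgroup.zpowers a, ∀ hg : g * x * g⁻¹ * x⁻¹ ∈ G0,
        ∀ z ∈ Rb, φ ⟨_, hg⟩ * z = z * φ ⟨_, hg⟩ := by
      intro g hg hgG z hz
      obtain ⟨gG, ⟨gD, hgD, hgφ⟩, hgv⟩ := hStab hg
      have hgD' : actE gD (xb : Rb ⧸ Zc) = (xb : Rb ⧸ Zc) := hgD
      rw [hactE, quot_center_eq_iff] at hgD'
      obtain rfl : (gG : Γ) = g := hgv
      rw [show (⟨(gG : Γ) * x * (gG : Γ)⁻¹ * x⁻¹, hgG⟩ : G0) = gG * ⟨x, hRG hx⟩ * gG⁻¹ * ⟨x, hRG hx⟩⁻¹ from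
        Subtype.ext rfl, map_mul, map_mul, map_mul, map_inv, map_inv, hxe, ← hgφ]
      simpa only [Coprime.coe_conjAut, Subgroup.coe_subtype] using hgD' z hz
    rintro _ ⟨⟨_, huD⟩, ⟨uG, hu, rfl⟩, rfl⟩
    rw [hactE, quot_center_eq_iff]
    intro z hz
    have hu' : (uG : Γ) ∈ T := hu
    have hgG : (uG : Γ) * x * (uG : Γ)⁻¹ * x⁻¹ ∈ G0 :=
      mul_mem (mul_mem (mul_mem uG.2 (hRG hx)) (inv_mem uG.2)) (inv_mem (hRG hx))
    have h := P.commute_of_act_fixed S hRG hTG φ hcentral haA haG haq' hx hxfix hu' hgG z hz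
    rw [show (⟨(uG : Γ) * x * (uG : Γ)⁻¹ * x⁻¹, hgG⟩ : G0) = uG * ⟨x, hRG hx⟩ * uG⁻¹ * ⟨x, hRG hx⟩⁻¹ from
      Subtype.ext rfl, map_mul, map_mul, map_mul, map_inv, map_inv, hxe] at h
    simpa only [Coprime.coe_conjAut] using h
  have hE := eq_one_of_symplectic hE2 c
    (fun e => by
      obtain ⟨x, rfl⟩ := QuotientGroup.mk_surjective e
      rw [hc]; exact Subtype.ext (commutatorElement_self _))
    (fun e he => by
      obtain ⟨x, rfl⟩ := QuotientGroup.mk_surjective e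
      rw [QuotientGroup.eq_one_iff]
      refine Subgroup.mem_center_iff.mpr fun z => Subtype.ext ?_
      have := he (z : Rb ⧸ Zc)
      rw [hc] at this
      exact (commutatorElement_eq_one_iff_mul_comm.mp (congrArg Subtype.val this)).symm)
    TE hTEab hTEodd hF.hq (haq' ▸ hqm) hm hTEq α hαq hαT
    (by rintro _ ⟨g, -, rfl⟩ x y; exact hcinv g x y) (hcinv _) hfixT hbound hL
  apply hxy0
  exact congrArg Subtype.val (Subgroup.mem_center_iff.mp
    ((QuotientGroup.eq_one_iff _).mp (hE ((⟨y0, hQR hy0⟩ : Rb) : Rb ⧸ Zc))) ⟨x0, hQR hx0⟩)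


end Pair

end Cfsg.Agent.PQFit
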