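import Cfsg.Agent.EqLemmas
import Mathlib.GroupTheory.FiniteAbelian.Duality
import Mathlib.RingTheory.RootsOfUnity.AlgebraicallyClosed

/-!
Weights of an abelian subgroup in an algebra over an algebraically closed field (owner: helper77).

* `Wt`, `wAct`, `e` : characters, the action of the normalizer, the idempotents
* `e_conj`, `e_mul_e`, `sum_e`, `exists_ne_one`
-/

set_option autoImplicit false

namespace Cfsg.Agent.PQFit

variable {Γ : Type*} [Group Γ] {F : Type*} [Field F] {R : Type*} [Ring R] [Algebra F R]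

/-- weights -/
abbrev Wt (B : Subgroup Γ) (F : Type*) [Field F] := B →* Fˣ

theorem conj_inv_mem {B : Subgroup Γ} {g : Γ} (hg : g ∈ Subgroup.normalizer (B : Set Γ)) (b : B) :
    g⁻¹ * (b : Γ) * g ∈ B := by
  simpa using (Subgroup.mem_normalizer_iff.mp (inv_mem hg) b).mp b.2

/-- the action of the normalizer on weights -/
def wAct {B : Subgroup Γ} (g : Subgroup.normalizer (B : Set Γ)) (l : Wt B F) : Wt B F where
  toFun b := l ⟨(g : Γ)⁻¹ * b * g, conj_inv_mem g.2 b⟩
  map_one' := by
    rw [show (⟨(g : Γ)⁻¹ * ((1 : B) : Γ) * g, _⟩ : B) = 1 from Subtype.ext (by simp), map_one]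
  map_mul' b c := by
    rw [← map_mul]; exact congrArg l (Subtype.ext (by simp [mul_assoc]))

variable {B : Subgroup Γ}

theorem wAct_one (l : Wt B F) : wAct (1 : Subgroup.normalizer (B : Set Γ)) l = l :=
  MonoidHom.ext fun b => congrArg l (Subtype.ext (by simp))

theorem wAct_mul (g h : Subgroup.normalizer (B : Set Γ)) (l : Wt B F) : wAct (g * h) l = wAct g (wAct h l) :=
  MonoidHom.ext fun b => congrArg l (Subtype.ext (by simp [mul_assoc]))

theorem wAct_inv_cancel (g : Subgroup.normalizer (B : Set Γ)) (l : Wt B F) : wAct g⁻¹ (wAct g l) = l := by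
  rw [← wAct_mul, inv_mul_cancel, wAct_one]

theorem wAct_of_centralizes {g : Subgroup.normalizer (B : Set Γ)}
    (hg : ∀ b ∈ B, (g : Γ) * b = b * g) (l : Wt B F) : wAct g l = l :=
  MonoidHom.ext fun b => congrArg l (Subtype.ext (by
    show (g : Γ)⁻¹ * b * g = b
    rw [mul_assoc, ← hg b b.2, inv_mul_cancel_left]))

variable [Finite Γ] (ρ : Γ →* R)

/-- the idempotent of a weight -/
noncomputable def e (l : Wt B F) : R :=
  letI := Fintype.ofFinite B
  (Nat.card B : F)⁻¹ • ∑ b : B, ((l b)⁻¹ : Fˣ).val • ρ (b : Γ)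

theorem rep_mul_e (b : B) (l : Wt B F) : ρ (b : Γ) * e ρ l = (l b : F) • e ρ l := by
  let _ := Fintype.ofFinite B
  rw [e, mul_smul_comm, smul_comm, Finset.smul_sum, Finset.mul_sum]
  congr 1
  refine Fintype.sum_equiv (Equiv.mulLeft b) _ _ fun c => ?_
  rw [mul_smul_comm, smul_smul, Equiv.coe_mulLeft, ← map_mul]
  congr 1
  rw [map_mul, ← Units.val_mul, mul_inv_rev, mul_comm (l b), mul_assoc, inv_mul_cancel, mul_one]

theorem e_conj (g : Subgroup.normalizer (B : Set Γ)) (l : Wt B F) :
    ρ (g : Γ) * e ρ l = e ρ (wAct g l) * ρ (g : Γ) := by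
  let _ := Fintype.ofFinite B
  rw [e, e, mul_smul_comm, smul_mul_assoc, Finset.mul_sum, Finset.sum_mul]
  congr 1
  refine Fintype.sum_equiv
    { toFun := fun b : B => (⟨(g : Γ) * b * (g : Γ)⁻¹, (Subgroup.mem_normalizer_iff.mp g.2 b).mp b.2⟩ : B)
      invFun := fun b : B => (⟨(g : Γ)⁻¹ * b * g, conj_inv_mem g.2 b⟩ : B)
      left_inv := fun b => Subtype.ext (by simp [mul_assoc])
      right_inv := fun b => Subtype.ext (by simp [mul_assoc]) } _ _ fun b => ?_
  simp only [Equiv.coe_fn_mk, mul_smul_comm, smul_mul_assoc, ← map_mul]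
  rw [inv_mul_cancel_right]
  congr 2
  exact congrArg (fun x => (l x)⁻¹) (Subtype.ext (by simp [mul_assoc]))

variable [IsAlgClosed F] (hB : ∀ b ∈ B, ∀ c ∈ B, b * c = c * b) (hcard : (Nat.card B : F) ≠ 0)

include hcard in
theorem roots : HasEnoughRootsOfUnity F (Monoid.exponent B) := by
  have : NeZero (Monoid.exponent B : F) := by
    refine ⟨fun h => hcard ?_⟩
    obtain ⟨c, hc⟩ := Group.exponent_dvd_nat_card (G := B)
    rw [hc, Nat.cast_mul, h, zero_mul]
  infer_instance

/-- `B` as a commutative group -/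
@[reducible] def commGroupB : CommGroup B :=
  { (inferInstance : Group B) with mul_comm := fun b c => Subtype.ext (hB _ b.2 _ c.2) }

include hB hcard in
theorem finite_wt : Finite (Wt B F) := by
  let _ := commGroupB hB
  have := roots (F := F) hcard
  obtain ⟨E⟩ := CommGroup.monoidHom_mulEquiv_of_hasEnoughRootsOfUnity B F
  exact Finite.of_equiv _ E.symm.toEquiv

include hB hcard in
theorem card_wt : Nat.card (Wt B F) = Nat.card B := by
  let _ := commGroupB hB
  have := roots (F := F) hcard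
  exact CommGroup.card_monoidHom_of_hasEnoughRootsOfUnity B F

include hB hcard in
theorem exists_apply_ne {b : B} (hb : b ≠ 1) : ∃ l : Wt B F, l b ≠ 1 := by
  let _ := commGroupB hB
  have := roots (F := F) hcard
  exact CommGroup.exists_apply_ne_one_of_hasEnoughRootsOfUnity B F hb

include hB hcard in
theorem sum_e [Fintype (Wt B F)] : ∑ l : Wt B F, e ρ l = 1 := by
  classical
  let _ := Fintype.ofFinite B
  have hz : ∀ b : B, ∑ l : Wt B F, ((l b)⁻¹ : Fˣ).val = if b = 1 then (Nat.card B : F) else 0 := by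
    intro b
    split_ifs with hb
    · subst hb
      rw [← card_wt (F := F) hB hcard, Nat.card_eq_fintype_card]
      simp
    · obtain ⟨m, hm⟩ := exists_apply_ne (F := F) hB hcard hb
      have h : ((m b)⁻¹ : Fˣ).val * ∑ l : Wt B F, ((l b)⁻¹ : Fˣ).val = ∑ l : Wt B F, ((l b)⁻¹ : Fˣ).val := by
        rw [Finset.mul_sum]
        refine Fintype.sum_equiv (Equiv.mulLeft m) _ _ fun l => ?_
        rw [Equiv.coe_mulLeft, MonoidHom.mul_apply, mul_inv, Units.val_mul]
      by_contra hne
      have h1 := mul_right_cancel₀ hne (h.trans (one_mul _).symm)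
      rw [Units.val_eq_one, inv_eq_one] at h1
      exact hm h1
  simp only [e, ← Finset.smul_sum]
  rw [Finset.sum_comm]
  simp only [← Finset.sum_smul, hz, ite_smul, zero_smul, Finset.sum_ite_eq', Finset.mem_univ, if_true]
  rw [smul_smul, inv_mul_cancel₀ hcard, one_smul, Subgroup.coe_one, map_one]

include hcard in
theorem e_mul_e [DecidableEq (Wt B F)] (l m : Wt B F) : e ρ l * e ρ m = if l = m then e ρ m else 0 := by
  classical
  let _ := Fintype.ofFinite B
  conv_lhs => arg 1; rw [e]
  rw [smul_mul_assoc, Finset.sum_mul]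
  simp only [smul_mul_assoc, rep_mul_e, smul_smul, ← Finset.sum_smul]
  split_ifs with h
  · subst h
    simp only [Units.inv_mul, Finset.sum_const, Finset.card_univ, nsmul_eq_mul, mul_one, ← Nat.card_eq_fintype_card]
    rw [inv_mul_cancel₀ hcard, one_smul]
  · obtain ⟨c, hc⟩ : ∃ c, l c ≠ m c := by
      by_contra! hh
      exact h (MonoidHom.ext hh)
    have hS : ∑ b : B, ((l b)⁻¹ : Fˣ).val * (m b : F) = 0 := by
      have h1 : (((l c)⁻¹ * m c : Fˣ) : F) * ∑ b : B, ((l b)⁻¹ : Fˣ).val * (m b : F) =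
          ∑ b : B, ((l b)⁻¹ : Fˣ).val * (m b : F) := by
        rw [Finset.mul_sum]
        refine Fintype.sum_equiv (Equiv.mulLeft c) _ _ fun b => ?_
        simp only [Equiv.coe_mulLeft, map_mul, mul_inv_rev, Units.val_mul]
        ring
      by_contra hne
      have h2 := mul_right_cancel₀ hne (h1.trans (one_mul _).symm)
      rw [Units.val_eq_one, inv_mul_eq_one] at h2
      exact hc h2
    rw [hS, mul_zero, zero_smul]

include hB hcard in
theorem exists_ne_one {b : Γ} (hb : b ∈ B) (hρ : ρ b ≠ 1) :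
    ∃ l : Wt B F, l ≠ 1 ∧ e ρ l ≠ 0 := by
  classical
  have := finite_wt (F := F) hB hcard
  let _ := Fintype.ofFinite (Wt B F)
  by_contra! hall
  apply hρ
  rw [← mul_one (ρ b), ← sum_e ρ hB hcard, Finset.mul_sum]
  refine Finset.sum_congr rfl fun l _ => ?_
  by_cases hl : l = 1
  · rw [show ρ b = ρ ((⟨b, hb⟩ : B) : Γ) from rfl, rep_mul_e, hl, MonoidHom.one_apply, Units.val_one, one_smul]
  · rw [hall l hl, mul_zero]

end Cfsg.Agent.PQFit
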