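import Cfsg.Agent.Lib.PQFit.Claim
import Cfsg.Agent.Lib.PQFit.Weights
import Cfsg.Agent.Lib.PQFit.TwoCase

/-!
An invariant `t`-group centralises every invariant `r`-group it normalises (owner: helper77).

* `Pair.false_of_minimal`, `centralize`
-/

set_option autoImplicit false

namespace Cfsg.Agent.PQFit

open scoped commutatorElement

namespace Pair

variable {Γ : Type*} [Group Γ] [Finite Γ] {A K R T : Subgroup Γ} {p q r t : ℕ} {f : Γ}
  (S : Setup A K p q f) (P : Pair A K R T r t)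
  {F : Type*} [Field F] [IsAlgClosed F] {W : Type*} [AddCommGroup W] [Module F W] [FiniteDimensional F W]
  (ρ : Γ →* Module.End F W)

include S P

theorem false_of_minimal [Fintype A] (hpF : (p : F) ≠ 0) (hqF : (q : F) ≠ 0) (hrF : (r : F) ≠ 0)
    (hinj : ∀ x ∈ R, ρ x = 1 → x = 1) (hsum : ∑ b : A, ρ (b : Γ) = 0) (hRT : ⁅R, T⁆ = R)
    (hT' : ⁅T, T⁆ ≤ Subgroup.centralizer (R : Set Γ))
    (B : Subgroup Γ) (hBne : B ≠ ⊥) (hBR : B ≤ R) (hAB : A ≤ Subgroup.normalizer (B : Set Γ))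
    (hTB : T ≤ Subgroup.normalizer (B : Set Γ)) (hRB : R ≤ Subgroup.centralizer (B : Set Γ))
    (hcase : B = R ∨ (T ≤ Subgroup.centralizer (B : Set Γ) ∧ frat R ≤ B)) : False := by
  classical
  have hF := S.frob
  haveI := Fact.mk P.hr
  haveI := Fact.mk hF.hq
  have hBab : ∀ b ∈ B, ∀ c ∈ B, b * c = c * b := fun b hb c hc =>
    (Subgroup.mem_centralizer_iff.mp (hRB (hBR hb)) c hc).symm
  have hRnB : R ≤ Subgroup.normalizer (B : Set Γ) := fun x hx =>
    Subgroup.centralizer_le_normalizer _ (hRB hx)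
  have hBcard : (Nat.card B : F) ≠ 0 := by
    obtain ⟨k, hk⟩ := IsPGroup.iff_card.mp (P.hR.to_le hBR)
    rw [hk, Nat.cast_pow]
    exact pow_ne_zero _ hrF
  have := finite_wt (F := F) hBab hBcard
  let _ := Fintype.ofFinite (Wt B F)
  obtain ⟨l, hl1, hle⟩ : ∃ l : Wt B F, l ≠ 1 ∧ e ρ l ≠ 0 := by
    obtain ⟨b, hb, hb1⟩ : ∃ b ∈ B, b ≠ 1 := by
      by_contra! h
      exact hBne ((Subgroup.eq_bot_iff_forall B).mpr h)
    exact exists_ne_one ρ hBab hBcard hb fun h => hb1 (hinj b (hBR hb) h)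
  -- stabilisers
  let stab : Wt B F → Subgroup Γ := fun μ =>
    { carrier := {g | ∃ hg : g ∈ A, wAct ⟨g, hAB hg⟩ μ = μ}
      one_mem' := ⟨one_mem _, wAct_one μ⟩
      mul_mem' := fun {x y} ⟨hx, hx'⟩ ⟨hy, hy'⟩ => ⟨mul_mem hx hy, by
        show wAct (⟨x, hAB hx⟩ * ⟨y, hAB hy⟩ : Subgroup.normalizer (B : Set Γ)) μ = μ
        rw [wAct_mul, hy', hx']⟩
      inv_mem' := fun {x} ⟨hx, hx'⟩ => ⟨inv_mem hx, by
        show wAct (⟨x, hAB hx⟩⁻¹ : Subgroup.normalizer (B : Set Γ)) μ = μ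
        conv_lhs => rw [← hx', wAct_inv_cancel]⟩ }
  have hstabA : ∀ μ, stab μ ≤ A := fun μ g hg => hg.1
  have hstab_sum : ∀ μ, (∑ b ∈ Finset.univ.filter (fun b : A => (b : Γ) ∈ stab μ), ρ (b : Γ)) * e ρ μ = 0 := by
    intro μ
    have h : e ρ μ * (∑ b : A, ρ (b : Γ)) * e ρ μ = 0 := by rw [hsum, mul_zero, zero_mul]
    rw [Finset.mul_sum, Finset.sum_mul] at h
    rw [Finset.sum_mul]
    refine Eq.trans ?_ h
    rw [Finset.sum_filter]
    refine Finset.sum_congr rfl fun b _ => ?_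
    have h1 := e_conj ρ ⟨(b : Γ), hAB b.2⟩ μ
    change ρ (b : Γ) * e ρ μ = _ at h1
    rw [mul_assoc, h1, ← mul_assoc, e_mul_e ρ hBcard]
    split_ifs with h2 h3 h3
    · rw [h3]
    · exact absurd h2.2.symm h3
    · exact absurd ⟨b.2, h3.symm⟩ h2
    · rw [zero_mul]
  have hstab_ne : ∀ μ, e ρ μ ≠ 0 → μ ≠ 1 → stab μ ≠ ⊥ ∧ stab μ ≠ A := by
    intro μ hμ hμ1
    constructor
    · intro h
      apply hμ
      have h1 := hstab_sum μ
      rw [Finset.sum_eq_single_of_mem (1 : A) (by simp [h])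
        (fun b hb hb1 => absurd (Subtype.ext (Subgroup.mem_bot.mp (h ▸ (Finset.mem_filter.mp hb).2))) hb1)] at h1
      rwa [OneMemClass.coe_one, map_one, one_mul] at h1
    · intro h
      apply hμ1
      refine MonoidHom.ext fun b => ?_
      letI := commGroupB hBab
      let conjB : A → B := fun a => ⟨(a : Γ) * b * (a : Γ)⁻¹, (Subgroup.mem_normalizer_iff.mp (hAB a.2) b).mp b.2⟩
      have hp1 : ∏ a : A, conjB a = 1 := by
        refine Subtype.ext (Subgroup.mem_bot.mp (S.fix.le ⟨P.hRK (hBR (∏ a : A, conjB a).2),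
          Subgroup.mem_centralizer_iff.mpr fun c hc => ?_⟩))
        let φ : B →* B := MonoidHom.mk'
          (fun x => ⟨c * x * c⁻¹, (Subgroup.mem_normalizer_iff.mp (hAB hc) x).mp x.2⟩)
          (fun x y => Subtype.ext (by simp [mul_assoc]))
        have hperm : φ (∏ a : A, conjB a) = ∏ a : A, conjB a := by
          rw [map_prod]
          exact Fintype.prod_equiv (Equiv.mulLeft ⟨c, hc⟩) _ _ fun a => Subtype.ext (by simp [φ, conjB, mul_assoc])
        exact mul_inv_eq_iff_eq_mul.mp (congrArg Subtype.val hperm)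
      have h6 : μ b ^ Nat.card A = 1 := by
        rw [Nat.card_eq_fintype_card, ← Finset.card_univ, ← Finset.prod_const, ← map_one μ, ← hp1, map_prod]
        refine Finset.prod_congr rfl fun a _ => ?_
        obtain ⟨ha, hfix⟩ := h.ge (inv_mem a.2)
        conv_lhs => rw [← hfix]
        exact congrArg μ (Subtype.ext (by simp [conjB]))
      have hK : μ b ^ Nat.card K = 1 := by
        have h7 : b ^ Nat.card B = 1 := pow_card_eq_one'
        obtain ⟨k, hk⟩ := Subgroup.card_dvd_of_le (hBR.trans P.hRK)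
        rw [hk, pow_mul, ← map_pow, h7, map_one, one_pow]
      have := pow_gcd_eq_one.mpr ⟨h6, hK⟩
      rwa [S.cop.gcd_eq_one, pow_one] at this
  -- the orbit
  let inO : Wt B F → Prop := fun μ => ∃ (x : Γ) (hx : x ∈ T), wAct ⟨x, hTB hx⟩ l = μ
  have hlO : inO l := ⟨1, one_mem _, wAct_one l⟩
  have hOlive : ∀ μ, inO μ → e ρ μ ≠ 0 ∧ μ ≠ 1 := by
    rintro _ ⟨x, hx, rfl⟩
    refine ⟨fun h => hle ?_, fun h => hl1 ?_⟩
    · have h1 := e_conj ρ ⟨x, hTB hx⟩ l
      rw [h, zero_mul] at h1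
      change ρ x * e ρ l = 0 at h1
      rw [← one_mul (e ρ l), ← map_one ρ, ← inv_mul_cancel x, map_mul, mul_assoc, h1, mul_zero]
    · rw [← wAct_inv_cancel ⟨x, hTB hx⟩ l, h]
      exact MonoidHom.ext fun b => rfl
  have hnormT : ∀ {g} (hg : g ∈ A) {x} (hx : x ∈ T), g * x * g⁻¹ ∈ T := fun {g} hg {x} hx =>
    (Subgroup.mem_normalizer_iff.mp (P.hAT hg) x).mp hx
  let Sorb : Subgroup Γ :=
    { carrier := {g | ∃ hg : g ∈ A, inO (wAct ⟨g, hAB hg⟩ l)}
      one_mem' := ⟨one_mem _, 1, one_mem _, rfl⟩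
      mul_mem' := by
        rintro x y ⟨hx, u, hu, hu'⟩ ⟨hy, v, hv, hv'⟩
        refine ⟨mul_mem hx hy, x * v * x⁻¹ * u, mul_mem (hnormT hx hv) hu, ?_⟩
        rw [show (⟨x * v * x⁻¹ * u, hTB (mul_mem (hnormT hx hv) hu)⟩ : Subgroup.normalizer (B : Set Γ)) =
          ⟨x, hAB hx⟩ * ⟨v, hTB hv⟩ * ⟨x, hAB hx⟩⁻¹ * ⟨u, hTB hu⟩ from Subtype.ext rfl,
          wAct_mul, hu', wAct_mul, wAct_inv_cancel, wAct_mul, hv',
          show (⟨x * y, hAB (mul_mem hx hy)⟩ : Subgroup.normalizer (B : Set Γ)) = ⟨x, hAB hx⟩ * ⟨y, hAB hy⟩ from rfl,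
          wAct_mul]
      inv_mem' := by
        rintro x ⟨hx, u, hu, hu'⟩
        refine ⟨inv_mem hx, x⁻¹ * u⁻¹ * x, by simpa using hnormT (inv_mem hx) (inv_mem hu), ?_⟩
        rw [show (⟨x⁻¹ * u⁻¹ * x, hTB (by simpa using hnormT (inv_mem hx) (inv_mem hu))⟩ : Subgroup.normalizer (B : Set Γ)) =
          ⟨x, hAB hx⟩⁻¹ * ⟨u, hTB hu⟩⁻¹ * ⟨x, hAB hx⟩ from Subtype.ext rfl,
          wAct_mul, ← hu', wAct_mul, wAct_inv_cancel]
        rfl }
  have hSA : Sorb ≤ A := fun g hg => hg.1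
  have hSne : Sorb ≠ A := by
    intro h
    let Tset : Subgroup Γ :=
      { carrier := {g | ∃ hg : g ∈ Subgroup.normalizer (B : Set Γ), wAct ⟨g, hg⟩ l = l}
        one_mem' := ⟨one_mem _, wAct_one l⟩
        mul_mem' := fun {x y} ⟨hx, hx'⟩ ⟨hy, hy'⟩ => ⟨mul_mem hx hy, by
          show wAct (⟨x, hx⟩ * ⟨y, hy⟩ : Subgroup.normalizer (B : Set Γ)) l = l
          rw [wAct_mul, hy', hx']⟩
        inv_mem' := fun {x} ⟨hx, hx'⟩ => ⟨inv_mem hx, by
          show wAct (⟨x, hx⟩⁻¹ : Subgroup.normalizer (B : Set Γ)) l = l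
          conv_lhs => rw [← hx', wAct_inv_cancel]⟩ }
    obtain ⟨n, hn, hnA⟩ := Coprime.exists_conj_le_of_forall P.hAT (P.cop_AT S) (Or.inl S.solvable) Tset
      fun b hb => by
        obtain ⟨hb', u, hu, hu'⟩ := h.ge hb
        refine ⟨u⁻¹, inv_mem hu, mul_mem (hTB (inv_mem hu)) (hAB hb'), ?_⟩
        show wAct (⟨u, hTB hu⟩⁻¹ * ⟨b, hAB hb'⟩ : Subgroup.normalizer (B : Set Γ)) l = l
        rw [wAct_mul, ← hu', wAct_inv_cancel]
    have hμ : inO (wAct ⟨n⁻¹, hTB (inv_mem hn)⟩ l) := ⟨n⁻¹, inv_mem hn, rfl⟩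
    refine (hstab_ne _ (hOlive _ hμ).1 (hOlive _ hμ).2).2 (le_antisymm (hstabA _) fun b hb => ?_)
    obtain ⟨hm, hm'⟩ := hnA (Coprime.conj_mem_conj.mpr hb)
    refine ⟨hb, ?_⟩
    conv_rhs => rw [← hm']
    rw [← wAct_mul, ← wAct_mul]
    exact congrArg (fun g => wAct g l) (Subtype.ext (by simp [mul_assoc]))
  have hstabS : ∀ μ, inO μ → stab μ ≤ Sorb := by
    rintro _ ⟨x, hx, rfl⟩ b ⟨hb, hb'⟩
    refine ⟨hb, b * x⁻¹ * b⁻¹ * x, mul_mem (hnormT hb (inv_mem hx)) hx, ?_⟩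
    rw [show (⟨b * x⁻¹ * b⁻¹ * x, hTB (mul_mem (hnormT hb (inv_mem hx)) hx)⟩ : Subgroup.normalizer (B : Set Γ)) =
      ⟨b, hAB hb⟩ * ⟨x, hTB hx⟩⁻¹ * ⟨b, hAB hb⟩⁻¹ * ⟨x, hTB hx⟩ from Subtype.ext rfl, wAct_mul]
    conv_lhs => arg 2; rw [← hb']
    rw [wAct_mul, wAct_inv_cancel, wAct_mul, wAct_inv_cancel]
  have hSbot : Sorb ≠ ⊥ := fun h => (hstab_ne l hle hl1).1 (le_bot_iff.mp (h ▸ hstabS l hlO))
  obtain ⟨a, haS, haq⟩ := hF.cases hSA hSbot hSne
  have haA : a ∈ A := hF.mem_of_cases hSA haS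
  have hao : (orderOf a).Prime := by
    rcases haq with rfl | h
    · rw [hF.orderf]; exact hF.hp
    · rw [h]; exact hF.hq
  have haoF : (orderOf a : F) ≠ 0 := by
    rcases haq with rfl | h
    · rw [hF.orderf]; exact hpF
    · rw [h]; exact hqF
  haveI := Fact.mk hao
  have hstab_eq : ∀ μ, inO μ → stab μ = Subgroup.zpowers a := by
    intro μ hμ
    refine Subgroup.eq_of_le_of_card_ge (haS ▸ hstabS μ hμ) ?_
    rw [Nat.card_zpowers]
    have h1 : 1 < Nat.card (stab μ) :=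
      (Subgroup.one_lt_card_iff_ne_bot _).mpr (hstab_ne μ (hOlive μ hμ).1 (hOlive μ hμ).2).1
    have h2 := Subgroup.card_dvd_of_le (haS ▸ hstabS μ hμ : stab μ ≤ Subgroup.zpowers a)
    rw [Nat.card_zpowers] at h2
    rcases (Nat.dvd_prime hao).mp h2 with h | h
    · omega
    · rw [h]
  have hafix : ∀ μ, inO μ → wAct ⟨a, hAB haA⟩ μ = μ := fun μ hμ => by
    obtain ⟨_, h⟩ := (hstab_eq μ hμ).ge (Subgroup.mem_zpowers a)
    exact h
  -- the component of the orbit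
  let O := Finset.univ.filter inO
  set eO := ∑ μ ∈ O, e ρ μ with heO
  have heOmem : ∀ {μ}, μ ∈ O ↔ inO μ := by simp [O]
  have heO_mul : ∀ μ, inO μ → eO * e ρ μ = e ρ μ := fun μ hμ => by
    rw [heO, Finset.sum_mul, Finset.sum_eq_single μ (fun ν _ hν => by rw [e_mul_e ρ hBcard, if_neg hν])
      (fun h => absurd (heOmem.mpr hμ) h), e_mul_e ρ hBcard, if_pos rfl]
  have heO_comm : ∀ g : Subgroup.normalizer (B : Set Γ), (∀ μ, inO μ → inO (wAct g μ)) →
      ρ (g : Γ) * eO = eO * ρ (g : Γ) := by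
    intro g hg
    rw [heO, Finset.mul_sum, Finset.sum_mul, Finset.sum_congr rfl fun μ _ => e_conj ρ g μ]
    refine Finset.sum_nbij (fun μ => wAct g μ) (fun μ hμ => heOmem.mpr (hg μ (heOmem.mp hμ)))
      (fun μ _ ν _ h => by
        have := congrArg (wAct g⁻¹) (show wAct g μ = wAct g ν from h)
        rwa [wAct_inv_cancel, wAct_inv_cancel] at this)
      (fun μ hμ => ?_) (fun μ _ => rfl)
    have hfin := Finite.surjective_of_injective (α := {μ // inO μ})
      (f := fun ν => ⟨wAct g ν.1, hg ν.1 ν.2⟩) (fun ν ν' h => Subtype.ext (by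
        have := congrArg (fun z => wAct g⁻¹ z.1) h
        simpa only [wAct_inv_cancel] using this))
    obtain ⟨⟨ν, hν⟩, hν'⟩ := hfin ⟨μ, heOmem.mp hμ⟩
    exact ⟨ν, heOmem.mpr hν, congrArg Subtype.val hν'⟩
  set G0 := R ⊔ T ⊔ Subgroup.zpowers a with hG0
  have hG0comm : ∀ g ∈ G0, ρ g * eO = eO * ρ g := by
    let Z : Subgroup Γ :=
      { carrier := {g | ρ g * eO = eO * ρ g}
        one_mem' := by simp
        mul_mem' := fun {g h} hg hh => by
          show ρ (g * h) * eO = eO * ρ (g * h)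
          rw [map_mul, mul_assoc, (hh : ρ h * eO = _), ← mul_assoc, (hg : ρ g * eO = _), mul_assoc]
        inv_mem' := fun {g} hg => by
          show ρ g⁻¹ * eO = eO * ρ g⁻¹
          calc ρ g⁻¹ * eO = ρ g⁻¹ * (eO * ρ g) * ρ g⁻¹ := by
                rw [mul_assoc, mul_assoc eO, ← map_mul, mul_inv_cancel, map_one, mul_one]
            _ = ρ g⁻¹ * (ρ g * eO) * ρ g⁻¹ := by rw [(hg : ρ g * eO = _)]
            _ = eO * ρ g⁻¹ := by rw [← mul_assoc (ρ g⁻¹), ← map_mul, inv_mul_cancel, map_one, one_mul] }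
    intro g hg
    refine (show G0 ≤ Z from sup_le (sup_le ?_ ?_) (Subgroup.zpowers_le.mpr ?_)) hg
    · intro x hx
      refine heO_comm ⟨x, hRnB hx⟩ fun μ hμ => ?_
      rwa [wAct_of_centralizes (fun b hb => (Subgroup.mem_centralizer_iff.mp (hRB hx) b hb).symm) μ]
    · intro x hx
      refine heO_comm ⟨x, hTB hx⟩ ?_
      rintro _ ⟨u, hu, rfl⟩
      exact ⟨x * u, mul_mem hx hu, wAct_mul ⟨x, hTB hx⟩ ⟨u, hTB hu⟩ l⟩
    · refine heO_comm ⟨a, hAB haA⟩ fun μ hμ => ?_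
      rwa [hafix μ hμ]
  let KU : Subgroup Γ :=
    { carrier := {x | x ∈ R ∧ ρ x * eO = eO}
      one_mem' := ⟨one_mem _, by simp⟩
      mul_mem' := fun {x y} hx hy => ⟨mul_mem hx.1 hy.1, by rw [map_mul, mul_assoc, hy.2, hx.2]⟩
      inv_mem' := fun {x} hx => ⟨inv_mem hx.1, by
        conv_lhs => rw [← hx.2, ← mul_assoc, ← map_mul, inv_mul_cancel, map_one, one_mul]⟩ }
  have hKUn : ∀ g, g ∈ G0 → g ∈ Subgroup.normalizer (R : Set Γ) → g ∈ Subgroup.normalizer (KU : Set Γ) := by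
    intro g hg hgR
    refine Coprime.mem_normalizer_of_forall fun x hx => ⟨(Subgroup.mem_normalizer_iff.mp hgR x).mp hx.1, ?_⟩
    rw [map_mul, map_mul, mul_assoc, hG0comm g⁻¹ (inv_mem hg), ← mul_assoc, mul_assoc (ρ g), hx.2, hG0comm g hg,
      mul_assoc, ← map_mul, mul_inv_cancel, map_one, mul_one]
  have hRG : R ≤ G0 := le_sup_left.trans' le_sup_left
  have hTG : T ≤ G0 := le_sup_left.trans' le_sup_right
  have haG : a ∈ G0 := Subgroup.mem_sup_right (Subgroup.mem_zpowers a)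
  have haR : a ∈ Subgroup.normalizer (R : Set Γ) := P.hAR haA
  -- `KU` is proper
  have hKUne : KU ≠ R := by
    intro h
    apply hl1
    refine MonoidHom.ext fun b => ?_
    by_contra hb
    have h1 : ρ (b : Γ) * eO = eO := (h.ge (hBR b.2)).2
    have h2 := congrArg (fun z => z * e ρ l) h1
    simp only [mul_assoc, heO_mul l hlO, rep_mul_e] at h2
    have h3 : ((l b : F) - 1) • e ρ l = 0 := by rw [sub_smul, one_smul, h2, sub_self]
    exact hb (Units.val_eq_one.mp (sub_eq_zero.mp ((smul_eq_zero.mp h3).resolve_right hle)))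
  -- `a` centralises `B` on the component
  have haB : ∀ b ∈ B, a * b * a⁻¹ * b⁻¹ ∈ KU := by
    intro b hb
    have hab : a * b * a⁻¹ * b⁻¹ ∈ B := mul_mem ((Subgroup.mem_normalizer_iff.mp (hAB haA) b).mp hb) (inv_mem hb)
    refine ⟨hBR hab, ?_⟩
    rw [heO, Finset.mul_sum]
    refine Finset.sum_congr rfl fun μ hμ => ?_
    have hab' : a * b * a⁻¹ ∈ B := (Subgroup.mem_normalizer_iff.mp (hAB haA) b).mp hb
    rw [show ρ (a * b * a⁻¹ * b⁻¹) = ρ ((⟨_, hab⟩ : B) : Γ) from rfl, rep_mul_e,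
      show (⟨_, hab⟩ : B) = ⟨a * b * a⁻¹, hab'⟩ * ⟨b, hb⟩⁻¹ from Subtype.ext rfl, map_mul, map_inv]
    conv_lhs => rw [show μ ⟨a * b * a⁻¹, hab'⟩ = μ ⟨b, hb⟩ by
      conv_lhs => rw [← hafix μ (heOmem.mp hμ)]
      exact congrArg μ (Subtype.ext (by simp [mul_assoc]))]
    rw [mul_inv_cancel, Units.val_one, one_smul]
  -- a non-trivial section centralised by `a`
  have hclaim : (∀ x ∈ R, a * x * a⁻¹ * x⁻¹ ∈ KU) → False := fun h =>
    hKUne (P.eq_of_act_trivial S hRT haA haq (fun x hx => hx.1)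
      (fun x hx => hKUn x (hRG hx) (Subgroup.le_normalizer hx)) (fun x hx => hKUn x (hTG hx) (P.hTR hx))
      (hKUn a haG haR) h)
  rcases hcase with hBR' | ⟨hTcB, hfB⟩
  · exact hclaim fun x hx => haB x (hBR'.ge hx)
  have hOsing : ∀ μ, inO μ → μ = l := by
    rintro _ ⟨x, hx, rfl⟩
    exact wAct_of_centralizes (fun b hb => (Subgroup.mem_centralizer_iff.mp (hTcB hx) b hb).symm) l
  have heOl : eO = e ρ l := by
    rw [heO, Finset.sum_eq_single_of_mem l (heOmem.mpr hlO) fun μ hμ hne => absurd (hOsing μ (heOmem.mp hμ)) hne]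
  have hscal : ∀ b (hb : b ∈ B), ρ b * eO = (l ⟨b, hb⟩ : F) • eO := fun b hb => by
    rw [heOl]; exact rep_mul_e ρ ⟨b, hb⟩ l
  -- the module of the component
  set U := LinearMap.range eO with hU
  have hUinv : ∀ g : G0, ∀ u ∈ U, ρ (g : Γ) u ∈ U := by
    rintro g _ ⟨w, rfl⟩
    exact ⟨ρ (g : Γ) w, by rw [← Module.End.mul_apply, ← hG0comm g g.2, Module.End.mul_apply]⟩
  have heOU : ∀ u ∈ U, eO u = u := by
    rintro _ ⟨w, rfl⟩
    rw [← Module.End.mul_apply, heOl, e_mul_e ρ hBcard, if_pos rfl]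
  let ψ : G0 →* Module.End F U :=
    { toFun := fun g => (ρ (g : Γ)).restrict (hUinv g)
      map_one' := LinearMap.ext fun u => Subtype.ext (by
        show ρ ((1 : G0) : Γ) (u : W) = u
        rw [OneMemClass.coe_one, map_one, Module.End.one_apply])
      map_mul' := fun g h => LinearMap.ext fun u => Subtype.ext (by
        show ρ ((g * h : G0) : Γ) (u : W) = ρ (g : Γ) (ρ (h : Γ) u)
        rw [Subgroup.coe_mul, map_mul, Module.End.mul_apply]) }
  have hψ : ∀ (g : G0) (u : U), ((ψ g u : U) : W) = ρ (g : Γ) u := fun g u => rfl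
  have hψ1 : ∀ g : G0, ψ g = 1 ↔ ρ (g : Γ) * eO = eO := fun g =>
    ⟨fun h => LinearMap.ext fun w => by
      have := congrArg Subtype.val (LinearMap.congr_fun h ⟨eO w, ⟨w, rfl⟩⟩)
      exact this,
    fun h => LinearMap.ext fun u => Subtype.ext (by
      show ρ (g : Γ) (u : W) = u
      conv_lhs => rw [← heOU u u.2, ← Module.End.mul_apply, h]
      exact heOU u u.2)⟩
  have hord : (⟨a, haG⟩ : G0) ^ orderOf a = 1 := Subtype.ext (by simp [pow_orderOf_eq_one])
  have hafree : ∀ u : U, ψ ⟨a, haG⟩ u = u → u = 0 := by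
    intro u hu
    have hu' : ρ a (u : W) = u := congrArg Subtype.val hu
    have h1 := LinearMap.congr_fun (hstab_sum l) (u : W)
    rw [Module.End.mul_apply, ← heOl, heOU u u.2, LinearMap.zero_apply, LinearMap.sum_apply,
      Finset.sum_congr rfl (g := fun _ => (u : W)) (fun b hb => by
        obtain ⟨i, hi⟩ := Subgroup.mem_zpowers_iff.mp ((hstab_eq l hlO).le (Finset.mem_filter.mp hb).2)
        let Z : Subgroup Γ :=
          { carrier := {g | ρ g (u : W) = u}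
            one_mem' := by simp
            mul_mem' := fun {g h} hg hh => by
              show ρ (g * h) (u : W) = u
              rw [map_mul, Module.End.mul_apply, (hh : ρ h (u : W) = u), (hg : ρ g (u : W) = u)]
            inv_mem' := fun {g} hg => by
              show ρ g⁻¹ (u : W) = u
              conv_lhs => rw [← (hg : ρ g (u : W) = u), ← Module.End.mul_apply, ← map_mul, inv_mul_cancel, map_one,
                Module.End.one_apply] }
        rw [← hi]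
        exact Z.zpow_mem (show a ∈ Z from hu') i),
      Finset.sum_const, ← Nat.cast_smul_eq_nsmul F] at h1
    refine Subtype.ext ((smul_eq_zero.mp h1).resolve_left ?_)
    have hcardS : (Finset.univ.filter fun b : A => (b : Γ) ∈ stab l).card = orderOf a := by
      rw [← Fintype.card_subtype, ← Nat.card_eq_fintype_card, ← Nat.card_zpowers, ← hstab_eq l hlO]
      exact Nat.card_congr
        { toFun := fun b => ⟨b.1.1, b.2⟩
          invFun := fun g => ⟨⟨g.1, hstabA l g.2⟩, g.2⟩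
          left_inv := fun b => rfl
          right_inv := fun g => rfl }
    rw [hcardS]; exact haoF
  by_cases hr2 : r = 2
  swap
  · -- odd `r`
    refine hclaim fun x hx => ⟨mul_mem ((Subgroup.mem_normalizer_iff.mp haR x).mp hx) (inv_mem hx), ?_⟩
    obtain ⟨ℓ, hℓ⟩ := CharP.exists F
    have hsum0 : ∑ i ∈ Finset.range (orderOf a), ψ (⟨a, haG⟩ ^ i) = 0 := by
      refine LinearMap.ext fun u => hafree _ ?_
      rw [LinearMap.sum_apply, map_sum]
      have h3 := Finset.sum_range_succ (fun i => ψ (⟨a, haG⟩ ^ i) u) (orderOf a)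
      rw [Finset.sum_range_succ' (fun i => ψ (⟨a, haG⟩ ^ i) u) (orderOf a), hord, pow_zero, add_right_cancel_iff] at h3
      exact (Finset.sum_congr rfl fun i _ => by rw [pow_succ', map_mul, Module.End.mul_apply]).symm.trans h3
    have hne : r ≠ orderOf a := fun h => by
      have h1 : r ∣ Nat.card A := h ▸ Subgroup.orderOf_dvd_natCard A haA
      have h2 : r ∣ Nat.card K := by
        rcases P.hR.card_eq_or_dvd with h' | h'
        · exact absurd (le_bot_iff.mp (hBR.trans (Subgroup.eq_bot_of_card_eq R h').le)) hBne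
        · exact h'.trans (Subgroup.card_dvd_of_le P.hRK)
      exact P.hr.one_lt.ne' (Nat.eq_one_of_dvd_coprimes S.cop h1 h2)
    have hN : (⟨a, haG⟩ : G0) ∈ Subgroup.normalizer (R.subgroupOf G0 : Set G0) := by
      rw [Subgroup.mem_normalizer_iff]
      exact fun g => Subgroup.mem_normalizer_iff.mp haR (g : Γ)
    have hcm := HallHigman.commute_of_sum_eq_zero (ℓ := ℓ) ψ (R.subgroupOf G0) ⟨a, haG⟩ hN hord haoF hne hrF hr2
      P.hR.comap_subtype hsum0 (g := ⟨x, hRG hx⟩) hx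
    have h1 : ψ (⟨a, haG⟩ * ⟨x, hRG hx⟩ * ⟨a, haG⟩⁻¹ * ⟨x, hRG hx⟩⁻¹) = 1 := by
      rw [map_mul, map_mul, map_mul, hcm.eq, mul_assoc (ψ ⟨x, _⟩), ← map_mul, mul_inv_cancel, map_one, mul_one,
        ← map_mul, mul_inv_cancel, map_one]
    exact (hψ1 _).mp h1
  subst hr2
  have h2K : 2 ∣ Nat.card K := by
    rcases P.hR.card_eq_or_dvd with h' | h'
    · exact absurd (le_bot_iff.mp (hBR.trans (Subgroup.eq_bot_of_card_eq R h').le)) hBne
    · exact h'.trans (Subgroup.card_dvd_of_le P.hRK)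
  refine P.false_of_two S hRG hTG ψ haA haG hao haoF haq hrF h2K hRT hT' hafree
    (fun x hx hxG => ⟨(l ⟨x, hfB hx⟩ : F), LinearMap.ext fun u => Subtype.ext (by
      show ρ x (u : W) = (l ⟨x, hfB hx⟩ : F) • (u : W)
      conv_lhs => rw [← heOU u u.2, ← Module.End.mul_apply, hscal x (hfB hx)]
      rw [LinearMap.smul_apply, heOU u u.2])⟩)
    fun h => hclaim fun x hx =>
      ⟨mul_mem ((Subgroup.mem_normalizer_iff.mp haR x).mp hx) (inv_mem hx), (hψ1 _).mp (h x hx)⟩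

end Pair

end Cfsg.Agent.PQFit
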