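import Cfsg.Agent.Lib.PQFit.Claim

/-!
Fixed points modulo a radical (owner: helper77).

* `quot_center_eq_iff`, `Pair.commute_of_act_fixed`
-/

set_option autoImplicit false

namespace Cfsg.Agent.PQFit

open scoped commutatorElement

theorem quot_center_eq_iff {G : Type*} [Group G] {H : Subgroup G} (x y : H) :
    (x : H ⧸ Subgroup.center H) = (y : H ⧸ Subgroup.center H) ↔
      ∀ z ∈ H, ((x : G) * (y : G)⁻¹) * z = z * ((x : G) * (y : G)⁻¹) := by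
  rw [← div_eq_one, ← QuotientGroup.mk_div, QuotientGroup.eq_one_iff, div_eq_mul_inv, Subgroup.mem_center_iff]
  exact ⟨fun h z hz => (congrArg Subtype.val (h ⟨z, hz⟩)).symm,
    fun h z => Subtype.ext (h z z.2).symm⟩

namespace Pair

variable {Γ : Type*} [Group Γ] [Finite Γ] {A K R T : Subgroup Γ} {p q r t : ℕ} {f : Γ}
  (S : Setup A K p q f) (P : Pair A K R T r t)

include S P

/-- An element of `R` fixed modulo a radical by `⁅T, a⁆⟨a⟩` is fixed modulo the radical by `T`. -/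
theorem commute_of_act_fixed {G0 : Subgroup Γ} (hRG : R ≤ G0) (hTG : T ≤ G0) {Gb : Type*} [Group Gb] [Finite Gb]
    (φ : G0 →* Gb) (hcen : ∀ y ∈ frat R, ∀ hy : y ∈ G0, φ ⟨y, hy⟩ ∈ Subgroup.center Gb)
    {a : Γ} (haA : a ∈ A) (haG : a ∈ G0) (haq : orderOf a = q) {x : Γ} (hx : x ∈ R)
    (hfix : ∀ g ∈ ⁅T, Subgroup.zpowers a⁆ ⊔ Subgroup.zpowers a, ∀ hg : g * x * g⁻¹ * x⁻¹ ∈ G0,
      ∀ z ∈ (R.subgroupOf G0).map φ, φ ⟨_, hg⟩ * z = z * φ ⟨_, hg⟩)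
    {u : Γ} (hu : u ∈ T) :
    ∀ hg : u * x * u⁻¹ * x⁻¹ ∈ G0, ∀ z ∈ (R.subgroupOf G0).map φ, φ ⟨_, hg⟩ * z = z * φ ⟨_, hg⟩ := by
  set Rb := (R.subgroupOf G0).map φ with hRb
  set Act := ⁅T, Subgroup.zpowers a⁆ ⊔ Subgroup.zpowers a with hAct
  let rad : Subgroup Γ := ((Subgroup.centralizer (Rb : Set Gb)).comap φ).map G0.subtype ⊓ R
  have hradR : rad ≤ R := inf_le_right
  have hrad : ∀ {y} (hy : y ∈ R), y ∈ rad ↔ ∀ z ∈ Rb, φ ⟨y, hRG hy⟩ * z = z * φ ⟨y, hRG hy⟩ := by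
    intro y hy
    refine ⟨?_, fun h => ⟨⟨⟨y, hRG hy⟩, Subgroup.mem_centralizer_iff.mpr fun z hz => (h z hz).symm, rfl⟩, hy⟩⟩
    rintro ⟨⟨⟨v, hv⟩, hw, rfl⟩, -⟩ z hz
    exact (Subgroup.mem_centralizer_iff.mp hw z hz).symm
  have hActG : Act ≤ G0 := sup_le ((Coprime.commutator_le_left' ((Subgroup.zpowers_le.mpr haA).trans P.hAT)).trans hTG)
    (Subgroup.zpowers_le.mpr haG)
  have hActR := P.commutator_sup_le_normalizer S haA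
  have hRbn : ∀ g (hg : g ∈ G0), g ∈ Subgroup.normalizer (R : Set Γ) →
      φ ⟨g, hg⟩ ∈ Subgroup.normalizer (Rb : Set Gb) := by
    intro g hg hgR
    refine Coprime.mem_normalizer_of_forall ?_
    rintro _ ⟨⟨w, hwG⟩, hw, rfl⟩
    rw [← map_inv, ← map_mul, ← map_mul]
    exact Subgroup.mem_map.mpr ⟨_, (Subgroup.mem_normalizer_iff.mp hgR w).mp hw, rfl⟩
  have hActN : Act ≤ Subgroup.normalizer (rad : Set Γ) := fun g hg => by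
    refine Coprime.mem_normalizer_of_forall fun y hy => ?_
    have hyR := hradR hy
    have hgR := (Subgroup.mem_normalizer_iff.mp (hActR hg) y).mp hyR
    refine (hrad hgR).mpr fun z hz => ?_
    have hz' : (φ ⟨g, hActG hg⟩)⁻¹ * z * φ ⟨g, hActG hg⟩ ∈ Rb :=
      (Subgroup.mem_normalizer_iff''.mp (hRbn g (hActG hg) (hActR hg)) z).mp hz
    have h1 := (hrad hyR).mp hy _ hz'
    rw [show (⟨g * y * g⁻¹, hRG hgR⟩ : G0) = ⟨g, hActG hg⟩ * ⟨y, hRG hyR⟩ * ⟨g, hActG hg⟩⁻¹ from rfl,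
      map_mul, map_mul, map_inv]
    generalize φ ⟨g, hActG hg⟩ = γ at *
    generalize φ ⟨y, hRG hyR⟩ = η at *
    calc γ * η * γ⁻¹ * z = γ * (η * (γ⁻¹ * z * γ)) * γ⁻¹ := by group
      _ = γ * (γ⁻¹ * z * γ * η) * γ⁻¹ := by rw [h1]
      _ = z * (γ * η * γ⁻¹) := by group
  have hcomR : ∀ g ∈ Act, g * x * g⁻¹ * x⁻¹ ∈ R := fun g hg =>
    mul_mem ((Subgroup.mem_normalizer_iff.mp (hActR hg) x).mp hx) (inv_mem hx)
  obtain ⟨d, hd, hdx⟩ := Coprime.exists_mem_centralizer_of_coset hActR (P.cop_commutator_sup S haA)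
    (Or.inr (by
      haveI := Fact.mk P.hr
      have := P.hR.isNilpotent
      infer_instance)) (N := rad) hradR hActN hx fun g hg => (hrad (hcomR g hg)).mpr fun z hz => hfix g hg _ z hz
  intro hg z hz
  have hdR : d ∈ R := hd.1
  have hud := P.fixed_mod_frattini S haA haq hdR
    (Subgroup.mem_centralizer_iff.mp hd.2 a (Subgroup.mem_sup_right (Subgroup.mem_zpowers a)))
    (fun w hw => Subgroup.mem_centralizer_iff.mp hd.2 w (Subgroup.mem_sup_left hw)) u hu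
  have hudR := frat_le R hud
  have hκ := Subgroup.mem_center_iff.mp (hcen _ hud (hRG hudR))
  have hdx' : d * x⁻¹ ∈ R := mul_mem hdR (inv_mem hx)
  have hρ := (hrad hdx').mp hdx
  have hz' : (φ ⟨u, hTG hu⟩)⁻¹ * z * φ ⟨u, hTG hu⟩ ∈ Rb :=
    (Subgroup.mem_normalizer_iff''.mp (hRbn u (hTG hu) (P.hTR hu)) z).mp hz
  have hxmem : φ ⟨x, hRG hx⟩ ∈ Rb := ⟨_, hx, rfl⟩
  have e1 : (⟨u * x * u⁻¹ * x⁻¹, hg⟩ : G0) = (⟨u, hTG hu⟩ * (⟨d * x⁻¹, hRG hdx'⟩)⁻¹ * ⟨u, hTG hu⟩⁻¹) *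
      ⟨u * d * u⁻¹ * d⁻¹, hRG hudR⟩ * ⟨d * x⁻¹, hRG hdx'⟩ := Subtype.ext (by simp [mul_assoc])
  rw [e1, map_mul, map_mul, map_mul, map_mul, map_inv, map_inv]
  have h2 := hρ _ hz'
  have h3 := hρ z hz
  generalize φ ⟨u * d * u⁻¹ * d⁻¹, hRG hudR⟩ = κ at *
  generalize φ ⟨u, hTG hu⟩ = γ at *
  generalize φ ⟨d * x⁻¹, hRG hdx'⟩ = ζ at *
  calc γ * ζ⁻¹ * γ⁻¹ * κ * ζ * z = γ * ζ⁻¹ * γ⁻¹ * (κ * z) * ζ := by rw [mul_assoc _ ζ z, h3]; group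
    _ = γ * ζ⁻¹ * γ⁻¹ * (z * κ) * ζ := by rw [hκ z]
    _ = γ * ζ⁻¹ * (γ⁻¹ * z * γ * ζ) * ζ⁻¹ * γ⁻¹ * κ * ζ := by group
    _ = γ * ζ⁻¹ * (ζ * (γ⁻¹ * z * γ)) * ζ⁻¹ * γ⁻¹ * κ * ζ := by rw [h2]
    _ = z * (γ * ζ⁻¹ * γ⁻¹ * κ * ζ) := by group

end Pair

end Cfsg.Agent.PQFit
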