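import Cfsg.Agent.Lib.Coprime.Action
import Mathlib.FieldTheory.IsAlgClosed.AlgebraicClosure
import Mathlib.LinearAlgebra.Matrix.ToLin
import Mathlib.Algebra.Module.ZMod

/-!
The module of a semidirect product over an algebraically closed field (owner: helper77).

* `exists_semi_rep`
-/

set_option autoImplicit false

namespace Cfsg.Agent.PQFit

open Cfsg.Agent.Coprime

universe u v

theorem exists_semi_rep_aux {s : ℕ} [Fact s.Prime] {A : Type v} [Group A] [Fintype A] {Q : Type u} [Group Q]
    [MulDistribMulAction A Q] {M : Type*} [AddCommGroup M] [Finite M] [Module (ZMod s) M]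
    (rep : Q →* AddMonoid.End M) (sig : A →* AddMonoid.End M) (hrep : Function.Injective rep)
    (hcompat : ∀ (a : A) (g : Q) (x : M), sig a (rep g x) = rep (a • g) (sig a x))
    (hfix : ∀ x : M, (∀ a, sig a x = x) → x = 0) :
    ∃ (d : ℕ) (ρ : toSemi A Q →* Module.End (AlgebraicClosure (ZMod s)) (Fin d → AlgebraicClosure (ZMod s))),
      (∀ g : Q, ρ (SemidirectProduct.inl g) = 1 → g = 1) ∧ ∑ a : A, ρ (SemidirectProduct.inr a) = 0 := by
  classical
  haveI : Module.Finite (ZMod s) M := Module.Finite.of_finite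
  let K := AlgebraicClosure (ZMod s)
  let z : AddMonoid.End M →+* Module.End (ZMod s) M :=
    { toFun := fun h => AddMonoidHom.toZModLinearMap s h
      map_one' := LinearMap.ext fun _ => rfl
      map_mul' := fun _ _ => LinearMap.ext fun _ => rfl
      map_zero' := LinearMap.ext fun _ => rfl
      map_add' := fun _ _ => LinearMap.ext fun _ => rfl }
  let b := Module.finBasis (ZMod s) M
  let φ : Module.End (ZMod s) M →+* Module.End K (Fin (Module.finrank (ZMod s) M) → K) :=
    (Matrix.toLinAlgEquiv' (R := K)).toRingEquiv.toRingHom.comp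
      ((algebraMap (ZMod s) K).mapMatrix.comp (LinearMap.toMatrixAlgEquiv b).toRingEquiv.toRingHom)
  have hφ : Function.Injective φ :=
    (Matrix.toLinAlgEquiv' (R := K)).injective.comp
      ((Matrix.map_injective (algebraMap (ZMod s) K).injective).comp (LinearMap.toMatrixAlgEquiv b).injective)
  let Φ : AddMonoid.End M →+* Module.End K (Fin (Module.finrank (ZMod s) M) → K) := φ.comp z
  have hΦ : Function.Injective Φ :=
    hφ.comp fun g h e => AddMonoidHom.ext fun x => LinearMap.congr_fun (show z g = z h from e) x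
  let ρ₀ : toSemi A Q →* (AddMonoid.End M)ˣ :=
    SemidirectProduct.lift rep.toHomUnits sig.toHomUnits fun a => MonoidHom.ext fun g => by
      show rep.toHomUnits (a • g) = sig.toHomUnits a * rep.toHomUnits g * (sig.toHomUnits a)⁻¹
      rw [eq_mul_inv_iff_mul_eq]
      exact Units.ext (AddMonoidHom.ext fun x => (hcompat a g x).symm)
  refine ⟨_, (Φ.toMonoidHom.comp (Units.coeHom _)).comp ρ₀, fun g hg => ?_, ?_⟩
  · refine hrep (hΦ ?_)
    rw [map_one rep, map_one Φ, ← hg]
    show Φ (rep g) = Φ ((ρ₀ (SemidirectProduct.inl g) : (AddMonoid.End M)ˣ) : AddMonoid.End M)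
    rw [SemidirectProduct.lift_inl]
    rfl
  · show ∑ a : A, Φ ((ρ₀ (SemidirectProduct.inr a) : (AddMonoid.End M)ˣ) : AddMonoid.End M) = 0
    simp only [ρ₀, SemidirectProduct.lift_inr, MonoidHom.coe_toHomUnits]
    rw [← map_sum]
    refine (congrArg Φ (AddMonoidHom.ext fun x => ?_)).trans (map_zero Φ)
    refine hfix _ fun c => ?_
    have happ : (∑ a, sig a : AddMonoid.End M) x = ∑ a, sig a x :=
      AddMonoidHom.finsetSum_apply (M := M) (N := M) (fun a => sig a) Finset.univ x
    refine (congrArg (sig c) happ).trans (Eq.trans ?_ happ.symm)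
    rw [map_sum]
    exact Fintype.sum_equiv (Equiv.mulLeft c) _ _ fun a => by
      rw [Equiv.coe_mulLeft, map_mul]; rfl

theorem exists_semi_rep {s : ℕ} [Fact s.Prime] {A : Type v} [Group A] [Fintype A] {Q : Type u} [Group Q]
    [MulDistribMulAction A Q] {M : Type*} [AddCommGroup M] [Finite M] (hM : ∀ x : M, s • x = 0)
    (rep : Q →* AddMonoid.End M) (sig : A →* AddMonoid.End M) (hrep : Function.Injective rep)
    (hcompat : ∀ (a : A) (g : Q) (x : M), sig a (rep g x) = rep (a • g) (sig a x))
    (hfix : ∀ x : M, (∀ a, sig a x = x) → x = 0) :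
    ∃ (d : ℕ) (ρ : toSemi A Q →* Module.End (AlgebraicClosure (ZMod s)) (Fin d → AlgebraicClosure (ZMod s))),
      (∀ g : Q, ρ (SemidirectProduct.inl g) = 1 → g = 1) ∧ ∑ a : A, ρ (SemidirectProduct.inr a) = 0 := by
  letI : Module (ZMod s) M := AddCommGroup.zmodModule hM
  exact exists_semi_rep_aux rep sig hrep hcompat hfix

end Cfsg.Agent.PQFit
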